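import Cfsg.Agent.Lib.ConwayLocal.Data
import Cfsg.Agent.Lib.Leech.ModStab

/-!
Coordinates modulo twice the lattice, and a count of centralisers by their orbits on classes.
-/

set_option autoImplicit false
set_option maxRecDepth 8000

namespace CfsgLib.ConwayLocal

open Cfsg CfsgGolay CfsgLeech CfsgLeechOrb CfsgLib.ConwayRec
open CfsgLib.CoTwoMult (forceN forceN_eq runC runC_spec axCode ax_vec)
open CfsgLeech.OctInv (prj)
open scoped Pointwise

attribute [local irreducible] codeL octadL dodecadL slpCodes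

/-- A dual vector. -/
def dualV (k : Fin 24) (i : GolayPt) : ℤ := (dualD.getD k.val []).getD (idx i) 0

/-- A basis vector. -/
def basV (k : Fin 24) : GolayPt → ℤ := vecN (basC.getD k.val 0)

theorem basis_ok : ∀ k : Fin 24, inLatB (basV k) = true ∧ inLatB (dualV k) = true := by decide +kernel

theorem basis_id : ∀ i j : GolayPt, ∑ k : Fin 24, basV k j * dualV k i = if i = j then 8 else 0 := by
  decide +kernel

theorem basis_dual : ∀ k l : Fin 24, dotInt (basV k) (dualV l) = if k = l then 8 else 0 := by decide +kernel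

/-- The basis in the lattice. -/
def basL (k : Fin 24) : ↥leechLattice := ⟨basV k, inLatB_sound (basis_ok k).1⟩

/-- The coordinates. -/
def crd (x : ↥leechLattice) (k : Fin 24) : ℤ := dotInt (x : GolayPt → ℤ) (dualV k) / 8

theorem crd_mul (x : ↥leechLattice) (k : Fin 24) : 8 * crd x k = dotInt (x : GolayPt → ℤ) (dualV k) :=
  Int.mul_ediv_cancel' (dot_dvd x.2 (inLatB_sound (basis_ok k).2))

theorem crd_add (x y : ↥leechLattice) (k : Fin 24) : crd (x + y) k = crd x k + crd y k := by
  have h1 := crd_mul (x + y) k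
  rw [AddSubgroup.coe_add, dot_add_left, ← crd_mul, ← crd_mul] at h1
  omega

theorem expand (x : ↥leechLattice) : x = ∑ k : Fin 24, crd x k • basL k := by
  refine Subtype.ext (funext fun j => ?_)
  rw [AddSubgroup.val_finset_sum, Finset.sum_apply]
  have h8 : ∀ k : Fin 24, 8 * ((crd x k • basL k : ↥leechLattice) : GolayPt → ℤ) j =
      dotInt (x : GolayPt → ℤ) (dualV k) * basV k j := fun k => by
    rw [← crd_mul, AddSubgroup.coe_zsmul, Pi.smul_apply, smul_eq_mul]
    show 8 * (crd x k * basV k j) = _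
    ring
  have h : 8 * (x : GolayPt → ℤ) j = ∑ k : Fin 24, 8 * ((crd x k • basL k : ↥leechLattice) : GolayPt → ℤ) j := by
    simp only [h8, dotInt, Finset.sum_mul]
    rw [Finset.sum_comm]
    have e : ∀ i, ∑ k : Fin 24, (x : GolayPt → ℤ) i * dualV k i * basV k j =
        (x : GolayPt → ℤ) i * if i = j then 8 else 0 := fun i => by
      rw [← basis_id i j, Finset.mul_sum]
      exact Finset.sum_congr rfl fun k _ => by ring
    simp only [e, mul_ite, mul_zero, Finset.sum_ite_eq', Finset.mem_univ, if_true]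
    ring
  rw [← Finset.mul_sum] at h
  omega

/-- The class modulo two. -/
def phiH : ↥leechLattice →+ (Fin 24 → ZMod 2) :=
  AddMonoidHom.mk' (fun x k => (crd x k : ZMod 2)) fun x y => funext fun k => by
    simp only [crd_add, Int.cast_add, Pi.add_apply]

theorem phiH_apply (x : ↥leechLattice) (k : Fin 24) : phiH x k = (crd x k : ZMod 2) := rfl

theorem self_add (a : ZMod 2) : a + a = 0 := by revert a; decide

theorem phiH_iff {x y : ↥leechLattice} : phiH x = phiH y ↔ Cg x y := by
  constructor
  · intro h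
    have he : ∀ k, ∃ a, crd (x - y) k = a + a := fun k => by
      have h1 : phiH (x - y) k = 0 := by rw [map_sub, h, sub_self]; rfl
      obtain ⟨a, ha⟩ := (ZMod.intCast_zmod_eq_zero_iff_dvd _ 2).mp h1
      exact ⟨a, by rw [ha]; push_cast; ring⟩
    choose a ha using he
    refine ⟨∑ k, a k • basL k, ?_⟩
    rw [expand (x - y)]
    simp only [ha, add_smul, Finset.sum_add_distrib]
  · rintro ⟨w, hw⟩
    funext k
    have h1 : phiH (x - y) k = 0 := by rw [hw, map_add, Pi.add_apply]; exact self_add _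
    rw [map_sub, Pi.sub_apply, sub_eq_zero] at h1
    exact h1

theorem phiH_neg (x : ↥leechLattice) : phiH (-x) = phiH x := phiH_iff.mpr (Cg.neg_self x)

/-- The action on classes. -/
theorem phiH_smul (g : ↥Co0) (x : ↥leechLattice) :
    phiH (g • x) = ∑ k : Fin 24, phiH x k • phiH (g • basL k) := by
  conv_lhs => rw [show g • x = autHom g (∑ k : Fin 24, crd x k • basL k) by rw [← expand]; rfl]
  rw [map_sum, map_sum]
  refine Finset.sum_congr rfl fun k _ => ?_
  rw [map_zsmul, map_zsmul, phiH_apply, Int.cast_smul_eq_zsmul]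
  rfl

/-- A coded class. -/
def vecM (n : ℕ) : Fin 24 → ZMod 2 := fun k => cond (n.testBit k.val) 1 0

theorem vecM_zero : vecM 0 = 0 := funext fun k => by simp [vecM]

theorem vecM_xor (a b : ℕ) : vecM (a ^^^ b) = vecM a + vecM b := funext fun k => by
  simp only [vecM, Pi.add_apply, Nat.testBit_xor]
  cases a.testBit k.val <;> cases b.testBit k.val <;> simp [self_add]

/-- The linear map of coded columns. -/
def linM (L : List ℕ) : (Fin 24 → ZMod 2) →ₗ[ZMod 2] (Fin 24 → ZMod 2) :=
  Fintype.linearCombination (ZMod 2) fun k : Fin 24 => vecM (L.getD k.val 0)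

theorem linM_apply (L : List ℕ) (x : Fin 24 → ZMod 2) : linM L x = ∑ k : Fin 24, x k • vecM (L.getD k.val 0) :=
  Fintype.linearCombination_apply ..

/-- A coded map on a coded class. -/
noncomputable def apN (L : List ℕ) (n : ℕ) : ℕ :=
  Nat.rec 0 (fun k a => cond (n.testBit k) (a ^^^ L.getD k 0) a) 24

theorem apN_spec (L : List ℕ) (n : ℕ) : vecM (apN L n) = linM L (vecM n) := by
  have key : ∀ m : ℕ, m ≤ 24 →
      vecM (Nat.rec 0 (fun k a => cond (n.testBit k) (a ^^^ L.getD k 0) a) m) =
        ∑ k ∈ Finset.univ.filter (fun k : Fin 24 => k.val < m), vecM n k • vecM (L.getD k.val 0) := by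
    intro m hm
    induction m with
    | zero => simp [vecM_zero]
    | succ m ih =>
      have hs : Finset.univ.filter (fun k : Fin 24 => k.val < m + 1) =
          insert (⟨m, hm⟩ : Fin 24) (Finset.univ.filter fun k : Fin 24 => k.val < m) := by
        ext k
        simp only [Finset.mem_filter, Finset.mem_univ, true_and, Finset.mem_insert, Fin.ext_iff]
        omega
      rw [hs, Finset.sum_insert (by simp), ← ih (Nat.le_of_succ_le hm)]
      show vecM (cond (n.testBit m) (_ ^^^ L.getD m 0) _) = _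
      cases hb : n.testBit m
      · simp [vecM, hb]
      · rw [cond_true, vecM_xor, add_comm]
        congr 1
        simp [vecM, hb]
  rw [linM_apply, apN, key 24 le_rfl]
  exact Finset.sum_congr (by ext k; simp [k.isLt]) fun _ _ => rfl

/-- One residue of a coordinate, from a code. -/
noncomputable def dotN (c : ℕ) (k : ℕ) : ℕ :=
  Nat.mod (Nat.rec 0 (fun j a => Nat.add a (Nat.mul (pappF c j) ((dualD.getD k []).getD j 0 % 16).toNat)) 24) 16

/-- The class of a code. -/
noncomputable def phiN (c : ℕ) : ℕ :=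
  Nat.rec 0 (fun k a => cond (Nat.beq (Nat.div (dotN c k) 8) 1) (a ^^^ Nat.pow 2 k) a) 24

theorem phiN_bit (c : ℕ) : ∀ n k : ℕ,
    (Nat.rec 0 (fun k a => cond (Nat.beq (Nat.div (dotN c k) 8) 1) (a ^^^ Nat.pow 2 k) a) n : ℕ).testBit k =
      (decide (k < n) && Nat.beq (dotN c k / 8) 1)
  | 0, k => by simp
  | n + 1, k => by
    have ih := phiN_bit c n k
    show (cond (Nat.beq (dotN c n / 8) 1) (_ ^^^ 2 ^ n) _ : ℕ).testBit k = _
    rcases Nat.lt_trichotomy k n with h | rfl | h
    · cases Nat.beq (dotN c n / 8) 1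
      · rw [cond_false, ih]; simp [h, Nat.lt_succ_of_lt h]
      · rw [cond_true, Nat.testBit_xor, ih, Nat.testBit_two_pow]
        simp [h, Nat.lt_succ_of_lt h, (Nat.ne_of_lt h).symm]
    · cases hb : Nat.beq (dotN c k / 8) 1
      · rw [cond_false, ih]; simp [hb]
      · rw [cond_true, Nat.testBit_xor, ih, Nat.testBit_two_pow]; simp [hb]
    · cases Nat.beq (dotN c n / 8) 1
      · rw [cond_false, ih]; simp [show ¬ k < n by omega, show ¬ k < n + 1 by omega]
      · rw [cond_true, Nat.testBit_xor, ih, Nat.testBit_two_pow]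
        simp [show ¬ k < n by omega, show ¬ k < n + 1 by omega, (Nat.ne_of_lt h)]

theorem sum_range_pt (f : ℕ → ℤ) : ∑ p : GolayPt, f (idx p) = ∑ j ∈ Finset.range 24, f j := by
  rw [← Finset.sum_image (f := f) (g := idx) fun a _ b _ h => idx_injective h]
  congr 1
  decide +kernel

theorem dual_sum : ∀ k : Fin 24, (16 : ℤ) ∣ 16 * ∑ j ∈ Finset.range 24, (dualD.getD k.val []).getD j 0 :=
  fun _ => dvd_mul_right _ _

theorem phiN_spec {c : ℕ} {x : ↥leechLattice} (h : (x : GolayPt → ℤ) = vecN c) : phiH x = vecM (phiN c) := by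
  funext k
  have hb : (phiN c).testBit k.val = Nat.beq (dotN c k.val / 8) 1 := by
    rw [phiN, phiN_bit]; simp [k.isLt]
  set D : ℕ → ℤ := fun j => (dualD.getD k.val []).getD j 0 with hD
  have hrec : ∀ n, ((Nat.rec 0 (fun j a => Nat.add a (Nat.mul (pappF c j)
      ((dualD.getD k.val []).getD j 0 % 16).toNat)) n : ℕ) : ℤ) =
      ∑ j ∈ Finset.range n, (papp c j : ℤ) * (D j % 16) := by
    intro n
    induction n with
    | zero => simp
    | succ n ih =>
      show ((_ + pappF c n * (D n % 16).toNat : ℕ) : ℤ) = _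
      rw [Finset.sum_range_succ, Nat.cast_add, ih, Nat.cast_mul, pappF_eq, Int.toNat_of_nonneg (Int.emod_nonneg _ (by norm_num))]
  have hdot : dotInt (x : GolayPt → ℤ) (dualV k) = ∑ j ∈ Finset.range 24, ((papp c j : ℤ) - 16) * D j := by
    rw [h, dotInt, ← sum_range_pt]
    rfl
  have hmod : dotInt (x : GolayPt → ℤ) (dualV k) % 16 = (dotN c k.val : ℤ) := by
    show _ = ((_ % 16 : ℕ) : ℤ)
    rw [Int.natCast_emod, hrec, hdot]
    show _ % (16 : ℤ) = _ % (16 : ℤ)
    rw [Finset.sum_int_mod, Finset.sum_int_mod _ _ fun j => (papp c j : ℤ) * (D j % 16)]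
    congr 1
    refine Finset.sum_congr rfl fun j _ => ?_
    rw [Int.mul_emod, Int.sub_emod, Int.emod_self, sub_zero, Int.emod_emod_of_dvd _ (dvd_refl _),
      Int.mul_emod (papp c j : ℤ) (D j % 16), Int.emod_emod_of_dvd _ (dvd_refl _)]
  have h8 := crd_mul x k
  rw [phiH_apply, vecM, hb]
  have hlt : dotN c k.val < 16 := Nat.mod_lt _ (by norm_num)
  cases he : Nat.beq (dotN c k.val / 8) 1
  · rw [cond_false, ZMod.intCast_zmod_eq_zero_iff_dvd]
    have := Nat.ne_of_beq_eq_false he
    omega
  · rw [cond_true, ← sub_eq_zero, ← Int.cast_one, ← Int.cast_sub, ZMod.intCast_zmod_eq_zero_iff_dvd]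
    have := Nat.eq_of_beq_eq_true he
    omega

/-- A word has the coded columns modulo two. -/
noncomputable def colOK (W : List Mon) (L : List ℕ) : Bool :=
  (List.range 24).all fun k =>
    forceN (runC (wS W) (basC.getD k 0)) fun r => Nat.blt 0 r && Nat.beq (phiN (Nat.pred r)) (L.getD k 0)

theorem phiH_word {W : List Mon} {L : List ℕ} (hW : VW W) (h : colOK W L = true) (x : ↥leechLattice) :
    phiH (ev0 W • x) = linM L (phiH x) := by
  rw [phiH_smul, linM_apply]
  refine Finset.sum_congr rfl fun k _ => ?_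
  simp only [colOK, List.all_eq_true, List.mem_range, forceN_eq, Bool.and_eq_true, Nat.blt_eq] at h
  obtain ⟨hpos, he⟩ := h k.val k.isLt
  obtain ⟨r, hr⟩ := Nat.exists_eq_succ_of_ne_zero hpos.ne'
  rw [hr] at he
  rw [phiN_spec (x := ev0 W • basL k) (c := r) (by
    rw [ev0_spec hW]; exact runC_spec _ _ r hr), ← Nat.eq_of_beq_eq_true he]
  rfl

/-- A certificate that classes killed by a map lie in the span of a list. -/
theorem mem_span_of_cert (L : (Fin 24 → ZMod 2) →ₗ[ZMod 2] (Fin 24 → ZMod 2)) (R P K : List ℕ)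
    (h : ∀ k : Fin 24, Pi.single k 1 = linM R (L (Pi.single k 1)) + linM K (vecM (P.getD k.val 0)))
    {x : Fin 24 → ZMod 2} (hx : L x = 0) : x = linM K (linM P x) := by
  have e : LinearMap.id = (linM R).comp L + (linM K).comp (linM P) :=
    (Pi.basisFun (ZMod 2) (Fin 24)).ext fun k => by
      simp only [Pi.basisFun_apply, LinearMap.id_coe, id_eq, LinearMap.add_apply, LinearMap.coe_comp,
        Function.comp_apply]
      have hs : linM P (Pi.single k 1) = vecM (P.getD k.val 0) := by
        rw [linM, Fintype.linearCombination_apply_single, one_smul]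
      rw [hs]
      exact h k
  have := LinearMap.congr_fun e x
  simpa [hx] using this

theorem card_fixed (L : (Fin 24 → ZMod 2) →ₗ[ZMod 2] (Fin 24 → ZMod 2)) (R P K : List ℕ)
    (h : ∀ k : Fin 24, Pi.single k 1 = linM R (L (Pi.single k 1)) + linM K (vecM (P.getD k.val 0)))
    (hK : K.length ≤ 24) : Nat.card {x // L x = 0} ≤ 2 ^ K.length := by
  let f : {x // L x = 0} → (Fin K.length → ZMod 2) := fun x i => linM P x.1 (Fin.castLE hK i)
  have hc : Nat.card (Fin K.length → ZMod 2) = 2 ^ K.length := by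
    rw [Nat.card_fun, Nat.card_zmod, Nat.card_fin]
  refine (Nat.card_le_card_of_injective f ?_).trans hc.le
  intro x y e
  refine Subtype.ext ?_
  calc (x : Fin 24 → ZMod 2) = linM K (linM P x.1) := mem_span_of_cert L R P K h x.2
    _ = linM K (linM P y.1) := ?_
    _ = y := (mem_span_of_cert L R P K h y.2).symm
  rw [linM_apply, linM_apply K]
  refine Finset.sum_congr rfl fun k _ => ?_
  rcases Nat.lt_or_ge k.val K.length with hk | hk
  · have := congrFun e ⟨k.val, hk⟩
    simp only [f] at this
    rw [show Fin.castLE hK ⟨k.val, hk⟩ = k from rfl] at this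
    rw [this]
  · rw [List.getD_eq_default _ _ hk, vecM_zero, smul_zero, smul_zero]

open scoped Classical in
/-- The class of the image of a vector. -/
noncomputable def cls (v : ↥leechLattice) (x : Spor.Co1) : Fin 24 → ZMod 2 := phiH (Quotient.out x • v)

theorem cls_prj (v : ↥leechLattice) (g : ↥Co0) : cls v (prj g) = phiH (g • v) := by
  have h : prj g = prj (Quotient.out (prj g)) := (Quotient.out_eq _).symm
  rcases OctInv.prj_eq.mp h with e | e
  · rw [cls, e]
  · rw [cls, e, mul_smul, negAut_smul, aut_neg, phiH_neg]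

theorem exists_lift (x : Spor.Co1) : ∃ g : ↥Co0, prj g = x := QuotientGroup.mk'_surjective _ x

/-- A subgroup is bounded by an orbit on classes times a stabiliser. -/
theorem card_le_classes {H : Subgroup Spor.Co1} (v : ↥leechLattice) {L : (Fin 24 → ZMod 2) →ₗ[ZMod 2] (Fin 24 → ZMod 2)}
    (hL : ∀ x ∈ H, L (cls v x) = 0) {a s : ℕ} (ha : Nat.card {y // L y = 0} ≤ a)
    (hs : Nat.card ↥(H ⊓ modImg v) ≤ s) : Nat.card ↥H ≤ a * s := by
  classical
  haveI := OctInv.co1_finite
  let f : ↥H → {y // L y = 0} := fun x => ⟨cls v x, hL x x.2⟩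
  have key : ∀ x y : ↥H, f x = f y → (x : Spor.Co1)⁻¹ * y ∈ H ⊓ modImg v := by
    intro x y e
    refine ⟨H.mul_mem (H.inv_mem x.2) y.2, ?_⟩
    obtain ⟨g, hg⟩ := exists_lift x
    obtain ⟨k, hk⟩ := exists_lift y
    have h : phiH (g • v) = phiH (k • v) := by
      rw [← cls_prj, ← cls_prj, hg, hk]; exact congrArg Subtype.val e
    have h2 := (Cg.map' g⁻¹ (phiH_iff.mp h)).symm'
    rw [inv_smul_smul, ← mul_smul] at h2
    rw [← hg, ← hk, ← map_inv, ← map_mul]
    exact mem_modImg.mpr h2
  cases nonempty_fintype ↥H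
  cases nonempty_fintype ↥(H ⊓ modImg v)
  refine le_trans ?_ (Nat.mul_le_mul ha hs)
  rw [Nat.card_eq_fintype_card, Nat.card_eq_fintype_card, Nat.card_eq_fintype_card, mul_comm,
    ← Finset.card_univ, ← Finset.card_univ]
  refine Finset.card_le_mul_card_image_of_maps_to (f := f) (fun _ _ => Finset.mem_univ _) _ fun b _ => ?_
  rcases (Finset.univ.filter fun x => f x = b).eq_empty_or_nonempty with he | ⟨x0, hx0⟩
  · simp [he]
  refine Finset.card_le_card_of_injOn
    (fun y => if h : f y = b then (⟨_, key x0 y ((Finset.mem_filter.mp hx0).2.trans h.symm)⟩ : ↥(H ⊓ modImg v)) else 1)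
    (fun _ _ => Finset.mem_univ _) fun y hy z hz e => ?_
  have hy' := (Finset.mem_filter.mp hy).2
  have hz' := (Finset.mem_filter.mp hz).2
  simp only [dif_pos hy', dif_pos hz'] at e
  exact Subtype.ext (mul_left_cancel (congrArg Subtype.val e))

end CfsgLib.ConwayLocal
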