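import Cfsg.Agent.Lib.ConwayLocal.Coord
import Cfsg.Agent.Lib.ShortPres.Carmichael

/-!
Coded elements of the first Conway group: relations, nontriviality, and alternating subgroups.
-/

set_option autoImplicit false
set_option maxRecDepth 8000

namespace CfsgLib.ConwayLocal

open Cfsg CfsgGolay CfsgLeech CfsgLeechOrb CfsgLib.ConwayRec
open CfsgLib.CoTwoMult (forceN forceN_eq runC runC_spec axCode ax_vec)
open CfsgLeech.OctInv (prj)
open scoped Pointwise

attribute [local irreducible] codeL octadL dodecadL slpCodes mco mv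

theorem vw_of_ok {W : List Mon} (h : W.all okM = true) : VW W := fun n hn =>
  Valid.of_ok (List.all_eq_true.mp h n hn)

theorem ev1_cat {A B : List Mon} (hA : VW A) (hB : VW B) : ev1 (cat A B) = ev1 A * ev1 B := ev_cat _ _ hA hB

theorem ev1_one : ev1 [oneM] = 1 := by
  show ((mv oneM : ↥Out1.NI) : Spor.Co1) = 1
  rw [mv_one, OneMemClass.coe_one]

theorem vw_one : VW [oneM] := fun n hn => by
  rw [List.mem_singleton.mp hn]; exact one_valid

theorem phiH_basL (k : Fin 24) : phiH (basL k) = vecM (2 ^ k.val) := by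
  funext l
  rw [phiH_apply, crd, show ((basL k : ↥leechLattice) : GolayPt → ℤ) = basV k from rfl, basis_dual, vecM,
    Nat.testBit_two_pow]
  by_cases h : k = l
  · simp [h]
  · have hne : ¬ (k.val = l.val) := fun e => h (Fin.ext e)
    rw [if_neg h, decide_eq_false hne, cond_false]
    rfl

theorem vecM_inj : ∀ {a b : ℕ}, a < 2 ^ 24 → b < 2 ^ 24 → vecM a = vecM b → a = b := by
  intro a b ha hb h
  refine Nat.eq_of_testBit_eq fun i => ?_
  by_cases hi : i < 24
  · have := congrFun h ⟨i, hi⟩
    simp only [vecM] at this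
    revert this
    cases a.testBit i <;> cases b.testBit i <;> simp
  · rw [Nat.testBit_eq_false_of_lt (lt_of_lt_of_le ha (Nat.pow_le_pow_right (by norm_num) (by omega))),
      Nat.testBit_eq_false_of_lt (lt_of_lt_of_le hb (Nat.pow_le_pow_right (by norm_num) (by omega)))]

/-- A word moves a class modulo two. -/
noncomputable def movesOK (W : List Mon) : Bool :=
  (List.range 24).any fun k =>
    forceN (runC (wS W) (basC.getD k 0)) fun r => Nat.blt 0 r && Nat.blt (phiN (Nat.pred r)) 16777216 &&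
      !Nat.beq (phiN (Nat.pred r)) (Nat.pow 2 k)

theorem ne_one_of_moves {W : List Mon} (hW : VW W) (h : movesOK W = true) : ev1 W ≠ 1 := by
  intro e
  simp only [movesOK, List.any_eq_true, List.mem_range, forceN_eq, Bool.and_eq_true, Nat.blt_eq,
    Bool.not_eq_true'] at h
  obtain ⟨k, hk, ⟨hpos, hlt⟩, hne⟩ := h
  obtain ⟨r, hr⟩ := Nat.exists_eq_succ_of_ne_zero hpos.ne'
  have h1 : phiH (ev0 W • basL ⟨k, hk⟩) = phiH (basL ⟨k, hk⟩) := by
    rw [← cls_prj, prj_ev0, e, ← map_one prj, cls_prj, one_smul]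
  rw [phiN_spec (x := ev0 W • basL ⟨k, hk⟩) (c := r) (by
    rw [ev0_spec hW]; exact runC_spec _ _ r hr), phiH_basL] at h1
  rw [hr] at hlt hne
  have := vecM_inj (show phiN r < 2 ^ 24 from hlt) (Nat.pow_lt_pow_right (by norm_num) hk) h1
  exact Nat.ne_of_beq_eq_false hne this

/-- Carmichael's relations, checked on words. -/
noncomputable def carmOK (L : List (List Mon)) : Bool :=
  L.all (fun A => A.all okM && same1 (cat A (cat A A)) [oneM]) &&
    (List.range L.length).all fun i => (List.range L.length).all fun j =>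
      Nat.ble j i || same1 (cat (cat (L.getD i []) (L.getD j [])) (cat (L.getD i []) (L.getD j []))) [oneM]

theorem sq_swap {G : Type*} [Group G] {x y : G} (h : (x * y) ^ 2 = 1) : (y * x) ^ 2 = 1 := by
  have : y * x = x⁻¹ * (x * y) * x := by group
  rw [this, show (x⁻¹ * (x * y) * x) ^ 2 = x⁻¹ * (x * y) ^ 2 * x by rw [pow_two, pow_two]; group, h, mul_one,
    inv_mul_cancel]

theorem carm_of_ok {L : List (List Mon)} (h : carmOK L = true) {n : ℕ} (hn : n ≤ L.length) :
    ShortPres.Carm fun i : Fin n => ev1 (L.getD i.val []) := by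
  simp only [carmOK, Bool.and_eq_true, List.all_eq_true, List.mem_range, Bool.or_eq_true, Nat.ble_eq] at h
  obtain ⟨h1, h2⟩ := h
  have hmem : ∀ i, i < n → L.getD i [] ∈ L := fun i hi => by
    rw [List.getD_eq_getElem _ _ (lt_of_lt_of_le hi hn)]; exact List.getElem_mem _
  have hv : ∀ i, i < n → VW (L.getD i []) := fun i hi => vw_of_ok (List.all_eq_true.mpr (h1 _ (hmem i hi)).1)
  refine ⟨fun i => ?_, fun i j hij => ?_⟩
  · have hA := hv i i.isLt
    have := ev1_eq (hA.catW (hA.catW hA)) vw_one (h1 _ (hmem i i.isLt)).2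
    rw [ev1_one, ev1_cat hA (hA.catW hA), ev1_cat hA hA] at this
    rw [pow_succ, pow_two, mul_assoc]
    exact this
  · have key : ∀ a b : Fin n, a.val < b.val → (ev1 (L.getD a.val []) * ev1 (L.getD b.val [])) ^ 2 = 1 := by
      intro a b hab
      have hA := hv a a.isLt
      have hB := hv b b.isLt
      have hc := hA.catW hB
      rcases h2 a (lt_of_lt_of_le a.isLt hn) b (lt_of_lt_of_le b.isLt hn) with e | e
      · omega
      · have := ev1_eq (hc.catW hc) vw_one e
        rw [ev1_one, ev1_cat hc hc, ev1_cat hA hB] at this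
        rw [pow_two]; exact this
    rcases Nat.lt_trichotomy i.val j.val with e | e | e
    · exact key i j e
    · exact absurd (Fin.ext e) hij
    · exact sq_swap (key j i e)

open Equiv in
/-- A nontrivial system satisfying Carmichael's relations spans an alternating group. -/
theorem alt_embed {G : Type*} [Group G] {n : ℕ} (hn : 3 ≤ n) {y : Fin n → G} (h : ShortPres.Carm y)
    (i0 : Fin n) (hne : y i0 ≠ 1) :
    ∃ φ : alternatingGroup (Fin (n + 2)) →* G, Function.Injective φ ∧
      ∀ g, φ g ∈ Subgroup.closure (Set.range y) := by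
  classical
  haveI : Nonempty (Fin n) := ⟨i0⟩
  let e : Fin n → Fin (n + 2) := fun i => ⟨i.val + 2, by omega⟩
  have he : Function.Injective e := fun i j hij => Fin.ext (by
    have := congrArg Fin.val hij
    simp only [e] at this
    omega)
  let H := Subgroup.closure (Set.range y)
  let y' : Fin n → ↥H := fun i => ⟨y i, Subgroup.subset_closure ⟨i, rfl⟩⟩
  have h' : ShortPres.Carm y' := ⟨fun i => Subtype.ext (h.1 i), fun i j hij => Subtype.ext (h.2 i j hij)⟩
  have hea : ∀ i, e i ≠ (0 : Fin (n + 2)) := fun i => by simp [e, Fin.ext_iff]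
  have heb : ∀ i, e i ≠ (1 : Fin (n + 2)) := fun i => by simp [e, Fin.ext_iff]
  obtain ⟨φ, hφ⟩ := h'.exists_hom he (show (0 : Fin (n + 2)) ≠ 1 by simp [Fin.ext_iff]) hea heb
  have hX : ∀ σ : Perm (Fin (n + 2)), σ ∈ alternatingGroup (Fin (n + 2)) →
      σ ∈ ShortPres.altOn (insert (0 : Fin (n + 2)) (insert 1 (Set.range e))) := fun σ hσ =>
    ShortPres.mem_altOn.2 ⟨fun c hc => absurd (by
      rcases Nat.lt_or_ge c.val 2 with h2 | h2
      · rcases (show c.val = 0 ∨ c.val = 1 by omega) with h3 | h3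
        · exact Set.mem_insert_iff.2 (Or.inl (Fin.ext h3))
        · exact Set.mem_insert_of_mem _ (Set.mem_insert_iff.2 (Or.inl (Fin.ext (by simpa using h3))))
      · exact Set.mem_insert_of_mem _ (Set.mem_insert_of_mem _ ⟨⟨c.val - 2, by omega⟩, Fin.ext (by
          simp only [e]; omega)⟩)) hc, Perm.mem_alternatingGroup.1 hσ⟩
  let j : alternatingGroup (Fin (n + 2)) →* ↥(ShortPres.altOn (insert (0 : Fin (n + 2)) (insert 1 (Set.range e)))) :=
    { toFun := fun σ => ⟨σ.1, hX _ σ.2⟩, map_one' := rfl, map_mul' := fun _ _ => rfl }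
  let ψ : alternatingGroup (Fin (n + 2)) →* G := H.subtype.comp (φ.comp j)
  haveI : IsSimpleGroup (alternatingGroup (Fin (n + 2))) :=
    alternatingGroup.isSimpleGroup (by rw [Nat.card_eq_fintype_card, Fintype.card_fin]; omega)
  refine ⟨ψ, ?_, fun g => (φ (j g)).2⟩
  rw [← MonoidHom.ker_eq_bot_iff]
  refine (IsSimpleGroup.eq_bot_or_eq_top_of_normal ψ.ker inferInstance).resolve_right fun htop => ?_
  have hc : ShortPres.cyc3 (0 : Fin (n + 2)) 1 (e i0) ∈ alternatingGroup (Fin (n + 2)) :=
    Perm.mem_alternatingGroup.2 (ShortPres.sign_cyc3 (by simp [Fin.ext_iff]) (hea i0).symm)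
  have hk : (⟨_, hc⟩ : alternatingGroup (Fin (n + 2))) ∈ ψ.ker := htop ▸ Subgroup.mem_top _
  refine hne ?_
  have : (φ (j ⟨_, hc⟩) : G) = y i0 := congrArg Subtype.val (hφ i0)
  rw [← this]
  exact hk

end CfsgLib.ConwayLocal
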