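import Mathlib.GroupTheory.SpecificGroups.Alternating
import Mathlib.GroupTheory.OrderOfElement
import Mathlib.GroupTheory.Perm.Sign
import Mathlib.GroupTheory.NoncommCoprod
import Mathlib.GroupTheory.SpecificGroups.Cyclic
import Mathlib.Data.ZMod.Basic
import Mathlib.Tactic.Group

/-!
A centraliser or normaliser recognised as a direct product by a bound on its order.
-/

set_option autoImplicit false
set_option maxRecDepth 8000

namespace CfsgLib.ConwayLocal

open Equiv

variable {G : Type*} [Group G]

theorem alt_center {n : ℕ} (hn : 4 ≤ n) {φ : alternatingGroup (Fin n) →* G} (hφ : Function.Injective φ)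
    (a : alternatingGroup (Fin n)) (h : ∀ b, φ b * φ a = φ a * φ b) : a = 1 := by
  have hc : a ∈ Subgroup.center (alternatingGroup (Fin n)) := Subgroup.mem_center_iff.mpr fun b =>
    hφ (by rw [map_mul, map_mul, h b])
  rw [alternatingGroup.center_eq_bot (by rw [Nat.card_eq_fintype_card, Fintype.card_fin]; exact hn)] at hc
  exact Subgroup.mem_bot.mp hc

theorem alt_card (n : ℕ) (hn : 2 ≤ n) : 2 * Nat.card (alternatingGroup (Fin n)) = n.factorial := by
  haveI : Nontrivial (Fin n) := Fin.nontrivial_iff_two_le.mpr hn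
  rw [two_mul_nat_card_alternatingGroup, Nat.card_perm, Nat.card_fin]

/-- An injective map onto a small subgroup is an isomorphism. -/
theorem equiv_of_bound {H : Type*} [Group H] [Finite H] [Finite G] {K : Subgroup G} (f : H →* G)
    (hf : Function.Injective f) (hK : ∀ h, f h ∈ K) (hb : Nat.card ↥K < 2 * Nat.card H) :
    Nonempty (↥K ≃* H) := by
  let g : H →* ↥K := f.codRestrict K hK
  have hg : Function.Injective g := fun a b e => hf (congrArg Subtype.val e)
  have hd : Nat.card H ∣ Nat.card ↥K := by
    rw [Nat.card_congr (MonoidHom.ofInjective hg).toEquiv]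
    exact Subgroup.card_subgroup_dvd_card g.range
  obtain ⟨q, hq⟩ := hd
  have hpos : 0 < Nat.card ↥K := Nat.card_pos
  have hq1 : q = 1 := by
    rcases q with _ | _ | q
    · omega
    · rfl
    · rw [hq] at hb
      have := Nat.mul_le_mul_left (Nat.card H) (show 2 ≤ q + 1 + 1 by omega)
      omega
  rw [hq1, mul_one] at hq
  exact ⟨(MulEquiv.ofBijective g ((Nat.bijective_iff_injective_and_card g).mpr ⟨hg, hq.symm⟩)).symm⟩

/-- The rotation part of a permutation of three points. -/
def rotA (σ : Perm (Fin 3)) : ℕ := (σ 0).val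

/-- The reflection part of a permutation of three points. -/
def refB (σ : Perm (Fin 3)) : Bool := decide (Perm.sign σ = -1)

theorem three_table : ∀ σ τ : Perm (Fin 3),
    rotA (σ * τ) = (rotA σ + cond (refB σ) (2 * rotA τ) (rotA τ)) % 3 ∧ refB (σ * τ) = xor (refB σ) (refB τ) := by
  decide +kernel

theorem three_ext : ∀ σ : Perm (Fin 3), rotA σ = 0 → refB σ = false → σ = 1 := by decide +kernel

theorem rotA_lt (σ : Perm (Fin 3)) : rotA σ < 3 := (σ 0).isLt

theorem three_reps : rotA 1 = 0 ∧ refB 1 = false := by decide +kernel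

/-- A pair generating a symmetric group on three points. -/
theorem sym_three (w t : G) (hw : orderOf w = 3) (ht : t * t = 1) (hr : t * (w * t) = w * w) :
    ∃ f : Perm (Fin 3) →* G, Function.Injective f ∧ ∀ σ, f σ = w ^ rotA σ * cond (refB σ) t 1 := by
  have hw3 : w ^ 3 = 1 := hw ▸ pow_orderOf_eq_one w
  have htw : ∀ k : ℕ, t * w ^ k = w ^ (2 * k) * t := by
    intro k
    induction k with
    | zero => simp
    | succ k ih =>
      have e : t * w = w ^ 2 * t := by
        calc t * w = t * (w * t) * t := by rw [mul_assoc, mul_assoc, ht, mul_one]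
          _ = w ^ 2 * t := by rw [hr, pow_two]
      rw [pow_succ, ← mul_assoc, ih, mul_assoc, e, ← mul_assoc, ← pow_add, Nat.mul_succ]
  let F : Perm (Fin 3) → G := fun σ => w ^ rotA σ * cond (refB σ) t 1
  have hmul : ∀ σ τ, F (σ * τ) = F σ * F τ := by
    intro σ τ
    obtain ⟨e1, e2⟩ := three_table σ τ
    show w ^ rotA (σ * τ) * cond (refB (σ * τ)) t 1 = w ^ rotA σ * cond (refB σ) t 1 * (w ^ rotA τ * cond (refB τ) t 1)
    have hp : ∀ n : ℕ, w ^ (n % 3) = w ^ n := fun n => by rw [← hw, pow_mod_orderOf]
    rw [e1, e2, hp]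
    cases refB σ <;> cases refB τ <;> simp only [cond_true, cond_false, Bool.false_xor, Bool.true_xor, Bool.not_false,
      Bool.not_true, mul_one, one_mul, pow_add]
    · rw [mul_assoc]
    · rw [mul_assoc, mul_assoc, htw]
    · rw [mul_assoc (w ^ rotA σ), ← mul_assoc t, htw, mul_assoc (w ^ (2 * rotA τ)), ht, mul_one]
  refine ⟨MonoidHom.mk' F hmul, ?_, fun σ => rfl⟩
  rw [← MonoidHom.ker_eq_bot_iff, Subgroup.eq_bot_iff_forall]
  intro σ hσ
  have h : w ^ rotA σ * cond (refB σ) t 1 = 1 := hσ
  have hlt := rotA_lt σ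
  cases hb : refB σ
  · rw [hb, cond_false, mul_one] at h
    have hd : 3 ∣ rotA σ := hw ▸ orderOf_dvd_of_pow_eq_one h
    exact three_ext σ (by omega) hb
  · exfalso
    rw [hb, cond_true] at h
    have htw' : t * w = w * t := by
      rw [eq_inv_of_mul_eq_one_right h]
      group
    have : w * w = w := by
      rw [← hr, ← htw', ← mul_assoc, ht, one_mul]
    have hw1 : w = 1 := mul_left_cancel (this.trans (mul_one w).symm)
    rw [hw1, orderOf_one] at hw
    omega

theorem normalizer_cases {w x : G} (hw : orderOf w = 3) (hx : x ∈ Subgroup.normalizer (Subgroup.zpowers w : Set G)) :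
    x * w * x⁻¹ = w ∨ x * w * x⁻¹ = w * w := by
  have h : x * w * x⁻¹ ∈ Subgroup.zpowers w := (Subgroup.mem_normalizer_iff.mp hx w).mp (Subgroup.mem_zpowers w)
  have hf : IsOfFinOrder w := orderOf_pos_iff.mp (by omega)
  classical
  obtain ⟨k, hk, e⟩ := (hf.mem_zpowers_iff_mem_range_orderOf).mp h |> Finset.mem_image.mp
  rw [Finset.mem_range, hw] at hk
  interval_cases k
  · exfalso
    rw [pow_zero, eq_comm, conj_eq_one_iff] at e
    rw [e, orderOf_one] at hw
    omega
  · left; rw [← e, pow_one]
  · right; rw [← e, pow_two]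

/-- The normaliser of a subgroup of order three as a product. -/
theorem normalizer_equiv [Finite G] {w t : G} (hw : orderOf w = 3) (ht : t * t = 1) (hr : t * (w * t) = w * w)
    {φ : alternatingGroup (Fin 9) →* G} (hφ : Function.Injective φ)
    (hc : ∀ a, φ a * w = w * φ a ∧ φ a * t = t * φ a)
    (hb : Nat.card ↥(Subgroup.centralizer ({w} : Set G)) < 2 * 544320) :
    Nonempty (↥(Subgroup.normalizer (Subgroup.zpowers w : Set G)) ≃* Perm (Fin 3) × alternatingGroup (Fin 9)) := by
  obtain ⟨f, hf, hfe⟩ := sym_three w t hw ht hr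
  have hfc : ∀ σ a, Commute (f σ) (φ a) := fun σ a => by
    rw [hfe]
    refine Commute.mul_left (Commute.pow_left (hc a).1.symm _) ?_
    cases refB σ
    · exact Commute.one_left _
    · exact (hc a).2.symm
  let F : Perm (Fin 3) × alternatingGroup (Fin 9) →* G := f.noncommCoprod φ hfc
  have hF : Function.Injective F := by
    rw [← MonoidHom.ker_eq_bot_iff, Subgroup.eq_bot_iff_forall]
    rintro ⟨σ, a⟩ h
    have h' : f σ * φ a = 1 := h
    have ha : a = 1 := alt_center (by norm_num) hφ a fun b => by
      rw [eq_inv_of_mul_eq_one_right h']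
      exact ((hfc σ b).inv_left).symm.eq
    rw [ha, map_one, mul_one, ← map_one f] at h'
    rw [ha, hf h']
    rfl
  have hA : Nat.card (alternatingGroup (Fin 9)) = 181440 := by
    have h := alt_card 9 (by norm_num)
    simp only [Nat.factorial] at h
    omega
  have hP : Nat.card (Perm (Fin 3)) = 6 := by rw [Nat.card_perm, Nat.card_fin]; rfl
  set W := Subgroup.zpowers w
  set N := Subgroup.normalizer (W : Set G)
  have hconj : t * w * t⁻¹ = w * w := by rw [inv_eq_of_mul_eq_one_right ht, mul_assoc, hr]
  have hN : ∀ {x : G}, x * w * x⁻¹ ∈ W → x ∈ N := by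
    intro x h
    have e : W.map (MulAut.conj x).toMonoidHom = W := by
      refine Subgroup.eq_of_le_of_card_ge ?_ (le_of_eq ?_)
      · rw [MonoidHom.map_zpowers, Subgroup.zpowers_le]; exact h
      · rw [Subgroup.card_map_of_injective (MulAut.conj x).injective]
    refine Subgroup.mem_normalizer_iff.mpr fun y => ⟨fun hy => ?_, fun hy => ?_⟩
    · rw [← e]; exact ⟨y, hy, rfl⟩
    · rw [← e] at hy
      obtain ⟨z, hz, hzy⟩ := hy
      rwa [show y = z from ((MulAut.conj x).injective hzy).symm]
  have hmem : ∀ p, F p ∈ N := by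
    rintro ⟨σ, a⟩
    show f σ * φ a ∈ N
    rw [hfe]
    refine mul_mem (mul_mem (pow_mem (hN (by simp [W])) _) ?_) (hN (by rw [(hc a).1, mul_inv_cancel_right]; exact Subgroup.mem_zpowers w))
    cases refB σ
    · exact one_mem _
    · exact hN (by rw [show cond true t 1 = t from rfl, hconj]; exact mul_mem (Subgroup.mem_zpowers w) (Subgroup.mem_zpowers w))
  refine equiv_of_bound F hF hmem ?_
  rw [Nat.card_prod, hP, hA]
  have hle : Nat.card ↥N ≤ 2 * Nat.card ↥(Subgroup.centralizer ({w} : Set G)) := by
    classical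
    let g : ↥N → Bool × ↥(Subgroup.centralizer ({w} : Set G)) := fun x =>
      if h : (x : G) * w * (x : G)⁻¹ = w then
        (false, ⟨x, Subgroup.mem_centralizer_singleton_iff.mpr (mul_inv_eq_iff_eq_mul.mp h)⟩)
      else (true, ⟨t * x, Subgroup.mem_centralizer_singleton_iff.mpr (by
        have e : (x : G) * w = w * w * x := mul_inv_eq_iff_eq_mul.mp ((normalizer_cases hw x.2).resolve_left h)
        have e2 : t * (w * w) = w * t := by
          rw [← hr, ← mul_assoc, ht, one_mul]
        rw [mul_assoc, e, ← mul_assoc, e2, mul_assoc])⟩)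
    refine (Nat.card_le_card_of_injective g fun x y e => ?_).trans (le_of_eq (by simp [Nat.card_prod]))
    simp only [g] at e
    split_ifs at e with h1 h2 h2
    · exact Subtype.ext (congrArg (fun p : Bool × ↥(Subgroup.centralizer ({w} : Set G)) => (p.2 : G)) e)
    · simp at e
    · simp at e
    · exact Subtype.ext (mul_left_cancel (congrArg (fun p : Bool × ↥(Subgroup.centralizer ({w} : Set G)) => (p.2 : G)) e))
  omega

/-- A centraliser as a product of a cyclic and an alternating group. -/
theorem centralizer_equiv [Finite G] {v : G} (hv : orderOf v = 7)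
    {φ : alternatingGroup (Fin 7) →* G} (hφ : Function.Injective φ) (hc : ∀ a, φ a * v = v * φ a)
    (hb : Nat.card ↥(Subgroup.centralizer ({v} : Set G)) < 2 * 17640) :
    Nonempty (↥(Subgroup.centralizer ({v} : Set G)) ≃* Multiplicative (ZMod 7) × alternatingGroup (Fin 7)) := by
  let e : Multiplicative (ZMod 7) ≃* ↥(Subgroup.zpowers v) :=
    mulEquivOfCyclicCardEq (by rw [Nat.card_zpowers, hv]; simp [Nat.card_zmod])
  let f : Multiplicative (ZMod 7) →* G := (Subgroup.zpowers v).subtype.comp e.toMonoidHom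
  have hf : Function.Injective f := Subtype.val_injective.comp e.injective
  have hfc : ∀ σ a, Commute (f σ) (φ a) := fun σ a => by
    obtain ⟨k, hk⟩ := Subgroup.mem_zpowers_iff.mp (e σ).2
    show Commute ((e σ : ↥(Subgroup.zpowers v)) : G) (φ a)
    rw [← hk]
    exact Commute.zpow_left (hc a).symm k
  let F : Multiplicative (ZMod 7) × alternatingGroup (Fin 7) →* G := f.noncommCoprod φ hfc
  have hF : Function.Injective F := by
    rw [← MonoidHom.ker_eq_bot_iff, Subgroup.eq_bot_iff_forall]
    rintro ⟨σ, a⟩ h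
    have h' : f σ * φ a = 1 := h
    have ha : a = 1 := alt_center (by norm_num) hφ a fun b => by
      rw [eq_inv_of_mul_eq_one_right h']
      exact ((hfc σ b).inv_left).symm.eq
    rw [ha, map_one, mul_one, ← map_one f] at h'
    rw [ha, hf h']
    rfl
  have hA : Nat.card (alternatingGroup (Fin 7)) = 2520 := by
    have h := alt_card 7 (by norm_num)
    simp only [Nat.factorial] at h
    omega
  refine equiv_of_bound F hF ?_ ?_
  · rintro ⟨σ, a⟩
    show f σ * φ a ∈ _
    refine mul_mem ?_ (Subgroup.mem_centralizer_singleton_iff.mpr (hc a))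
    obtain ⟨k, hk⟩ := Subgroup.mem_zpowers_iff.mp (e σ).2
    show ((e σ : ↥(Subgroup.zpowers v)) : G) ∈ _
    rw [← hk]
    exact zpow_mem (Subgroup.mem_centralizer_singleton_iff.mpr rfl) k
  · rw [Nat.card_prod, hA, show Nat.card (Multiplicative (ZMod 7)) = 7 by simp [Nat.card_zmod]]
    omega

end CfsgLib.ConwayLocal
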