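import Cfsg.Agent.Lib.ConwayLocal.Seven
import Cfsg.Agent.Lib.ConwayLocal.Glue

/-!
Two local subgroups of the first Conway group, carried along isomorphisms.
-/

set_option autoImplicit false

namespace CfsgLib.ConwayLocal

open Cfsg CfsgLeech

theorem co1_seven : ∃ V : Subgroup Spor.Co1, Nat.card V = 7 ∧
    Nonempty (↥(Subgroup.centralizer (V : Set Spor.Co1)) ≃* Multiplicative (ZMod 7) × alternatingGroup (Fin 7)) := by
  haveI := OctInv.co1_finite
  obtain ⟨φ, hφ, hc⟩ := exists_seven
  obtain ⟨e⟩ := centralizer_equiv vE_order hφ hc cent_card_lt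
  refine ⟨Subgroup.zpowers vE, by rw [Nat.card_zpowers, vE_order], ⟨(MulEquiv.subgroupCongr ?_).trans e⟩⟩
  rw [Subgroup.zpowers_eq_closure, Subgroup.centralizer_closure]

theorem co1_three : ∃ W : Subgroup Spor.Co1, Nat.card W = 3 ∧
    Nonempty (↥(Subgroup.normalizer (W : Set Spor.Co1)) ≃* Equiv.Perm (Fin 3) × alternatingGroup (Fin 9)) := by
  haveI := OctInv.co1_finite
  obtain ⟨φ, hφ, hc⟩ := exists_nine
  exact ⟨Subgroup.zpowers wE, by rw [Nat.card_zpowers, wE_order],
    normalizer_equiv wE_order tE_rel.1 tE_rel.2 hφ hc (lt_of_le_of_lt cent_card_le (by norm_num))⟩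

variable {G H : Type*} [Group G] [Group H]

theorem centralizer_map (f : H ≃* G) (V : Subgroup H) :
    Subgroup.centralizer ((V.map f.toMonoidHom : Subgroup G) : Set G) =
      (Subgroup.centralizer (V : Set H)).map f.toMonoidHom := by
  ext x
  obtain ⟨y, rfl⟩ := f.surjective x
  rw [Subgroup.mem_map_equiv, f.symm_apply_apply, Subgroup.mem_centralizer_iff, Subgroup.mem_centralizer_iff]
  constructor
  · intro h v hv
    exact f.injective (by rw [map_mul, map_mul]; exact h _ ⟨v, hv, rfl⟩)
  · rintro h _ ⟨v, hv, rfl⟩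
    show f v * f y = f y * f v
    rw [← map_mul, ← map_mul, h v hv]

end CfsgLib.ConwayLocal
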