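import Cfsg.Agent.Lib.ConwayLocal.Elem

/-!
Monomial maps commuting with an element of order seven.
-/

set_option autoImplicit false
set_option maxRecDepth 8000

namespace CfsgLib.ConwayLocal

open Cfsg CfsgGolay CfsgLeech CfsgLeechOrb CfsgLib.ConwayRec
open CfsgLib.CoTwoMult (forceN forceN_eq runC runC_spec axCode ax_vec)
open CfsgLeech.OctInv (prj)
open scoped Pointwise

attribute [local irreducible] codeL octadL dodecadL slpCodes

/-- Powers of the conjugate element. -/
noncomputable def powP : ℕ → List Mon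
  | 0 => wordP
  | k + 1 => cat wordP (powP k)

/-- A recorded entry. -/
def entP (k i j : ℕ) : ℤ := (papp ((imgP.getD k []).getD j 0) i : ℤ) - 16

/-- Its size. -/
def magP (k i j : ℕ) : ℕ := (entP k i j).natAbs

/-- The signature of a place against three others. -/
def sigP (a b c x : ℕ) : List ℕ :=
  [0, 1, 2].flatMap fun k => [magP k a x, magP k x a, magP k b x, magP k x b, magP k c x, magP k x c, magP k x x]

/-- Three places agree with three others. -/
def agreeP (a b c a' b' c' : ℕ) : Bool :=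
  [0, 1, 2].all fun k =>
    Nat.beq (magP k a' a') (magP k a a) && (Nat.beq (magP k b' b') (magP k b b) && (Nat.beq (magP k c' c') (magP k c c) &&
    (Nat.beq (magP k a' b') (magP k a b) && (Nat.beq (magP k b' a') (magP k b a) &&
    (Nat.beq (magP k a' c') (magP k a c) && (Nat.beq (magP k c' a') (magP k c a) &&
    (Nat.beq (magP k b' c') (magP k b c) && Nat.beq (magP k c' b') (magP k c b))))))))

/-- The recorded images are right. -/
noncomputable def imgOK : Bool :=
  (List.range 3).all fun k => (powP k).all okM && (List.range 24).all fun j =>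
    Nat.beq (runC (wS (powP k)) (axCode j)) ((imgP.getD k []).getD j 0 + 1)

theorem img_ok : imgOK = true := by
  unfold imgOK
  decide +kernel

/-- The base separates places. -/
def baseOK : Bool :=
  (List.range 24).all fun x => (List.range 24).all fun y =>
    [0, 2, 4].contains x || [0, 2, 4].contains y || Nat.beq x y || !(sigP 0 2 4 x == sigP 0 2 4 y)

theorem base_ok : baseOK = true := by
  unfold baseOK
  decide +kernel

/-- Only the recorded images of the base are admissible. -/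
def trpOK : Bool :=
  (List.range 24).all fun a => (List.range 24).all fun b => (List.range 24).all fun c =>
    trpP.contains (a, b, c) || !(agreeP 0 2 4 a b c) ||
      (List.range 24).any fun x => (List.range 24).all fun y => !(sigP a b c y == sigP 0 2 4 x)

theorem trp_ok : trpOK = true := by
  unfold trpOK
  decide +kernel

/-- Only trivial code words are constant along the edges. -/
noncomputable def signOK : Bool :=
  codeL.all fun m => (Nat.beq m 0 || Nat.beq m 16777215) || edgP.any fun e => xor (bitF m e.1) (bitF m e.2)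

theorem sign_ok : signOK = true := by
  unfold signOK codeL
  decide +kernel

theorem edge_ok : (entP 0 0 0 ≠ 0) ∧ ∀ e ∈ edgP, e.1 < 24 ∧ e.2 < 24 ∧ entP 0 e.1 e.2 ≠ 0 := by decide +kernel

/-- The sign of a place. -/
def sgnAt (c : Finset GolayPt) (i : GolayPt) : ℤ := if i ∈ c then -1 else 1

theorem signedPerm_sgn (σ : Equiv.Perm GolayPt) (c : Finset GolayPt) (x : GolayPt → ℤ) (i : GolayPt) :
    signedPerm σ c x (σ i) = sgnAt c (σ i) * x i := by
  simp only [signedPerm, sgnAt, Equiv.symm_apply_apply]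
  split_ifs <;> ring

theorem mono_ax (σ : ↥M24) {c : Finset GolayPt} (hc : c ∈ CW) (j : GolayPt) :
    monoAut σ.1 σ.2 c hc • ax j = sgnAt c (σ.1 j) • ax (σ.1 j) := by
  refine Subtype.ext (funext fun a => ?_)
  obtain ⟨i, rfl⟩ := σ.1.surjective a
  rw [monoAut_apply, signedPerm_sgn, ax_coe, AddSubgroup.coe_zsmul, ax_coe, Pi.smul_apply, smul_eq_mul,
    Pi.single_apply, Pi.single_apply]
  by_cases h : i = j
  · subst h; simp
  · have : σ.1 i ≠ σ.1 j := fun e => h (σ.1.injective e)
    simp [h, this]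

theorem img_entry {k : ℕ} (hk : k < 3) (i j : GolayPt) :
    ((ev0 (powP k) • ax j : ↥leechLattice) : GolayPt → ℤ) i = entP k (idx i) (idx j) := by
  have H := img_ok
  simp only [imgOK, List.all_eq_true, List.mem_range, Bool.and_eq_true] at H
  obtain ⟨hv, hr⟩ := H k hk
  rw [ev0_spec (vw_of_ok (List.all_eq_true.mpr hv)), ← ax_vec,
    runC_spec _ _ _ (Nat.eq_of_beq_eq_true (hr (idx j) (idx_lt j)))]
  rfl

/-- The relation of a commuting monomial map to the entries. -/
theorem entry_rel {k : ℕ} (hk : k < 3) {σ : ↥M24} {c : Finset GolayPt} {hc : c ∈ CW}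
    (h : Out1.el σ c hc * ev1 (powP k) = ev1 (powP k) * Out1.el σ c hc) :
    ∃ ε : ℤ, (ε = 1 ∨ ε = -1) ∧ ∀ i j : GolayPt,
      sgnAt c (σ.1 j) * entP k (idx (σ.1 i)) (idx (σ.1 j)) = ε * (sgnAt c (σ.1 i) * entP k (idx i) (idx j)) := by
  rw [← prj_ev0, show Out1.el σ c hc = prj (monoAut σ.1 σ.2 c hc) from rfl, ← map_mul, ← map_mul, OctInv.prj_eq] at h
  have key : ∀ ε : ℤ, (∀ j, ev0 (powP k) • (monoAut σ.1 σ.2 c hc • ax j) =
      ε • (monoAut σ.1 σ.2 c hc • (ev0 (powP k) • ax j))) → ∀ i j : GolayPt,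
      sgnAt c (σ.1 j) * entP k (idx (σ.1 i)) (idx (σ.1 j)) = ε * (sgnAt c (σ.1 i) * entP k (idx i) (idx j)) := by
    intro ε he i j
    have := congrFun (congrArg Subtype.val (he j)) (σ.1 i)
    rw [mono_ax, show ev0 (powP k) • (sgnAt c (σ.1 j) • ax (σ.1 j)) =
      sgnAt c (σ.1 j) • (ev0 (powP k) • ax (σ.1 j)) from map_zsmul (autHom (ev0 (powP k))) _ _] at this
    simp only [AddSubgroup.coe_zsmul, Pi.smul_apply, smul_eq_mul, monoAut_apply, signedPerm_sgn, img_entry hk] at this
    exact this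
  rcases h with h | h
  · refine ⟨1, Or.inl rfl, key 1 fun j => ?_⟩
    rw [one_smul, ← mul_smul, ← mul_smul, h]
  · refine ⟨-1, Or.inr rfl, key (-1) fun j => ?_⟩
    rw [neg_one_zsmul, ← mul_smul, ← mul_smul, h, Subgroup.mem_center_iff.mp negAut_central, mul_smul negAut,
      negAut_smul]

theorem mag_rel {k : ℕ} (hk : k < 3) {σ : ↥M24} {c : Finset GolayPt} {hc : c ∈ CW}
    (h : Out1.el σ c hc * ev1 (powP k) = ev1 (powP k) * Out1.el σ c hc) (i j : GolayPt) :
    magP k (idx (σ.1 i)) (idx (σ.1 j)) = magP k (idx i) (idx j) := by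
  obtain ⟨ε, hε, he⟩ := entry_rel hk h
  have := congrArg Int.natAbs (he i j)
  have hs : ∀ a, (sgnAt c a).natAbs = 1 := fun a => by rw [sgnAt]; split_ifs <;> rfl
  rw [Int.natAbs_mul, Int.natAbs_mul, Int.natAbs_mul, hs, hs] at this
  rcases hε with rfl | rfl <;> simpa [magP] using this

theorem sig_rel {σ : ↥M24} {c : Finset GolayPt} {hc : c ∈ CW}
    (h : ∀ k < 3, Out1.el σ c hc * ev1 (powP k) = ev1 (powP k) * Out1.el σ c hc) (a b d x : GolayPt) :
    sigP (idx (σ.1 a)) (idx (σ.1 b)) (idx (σ.1 d)) (idx (σ.1 x)) = sigP (idx a) (idx b) (idx d) (idx x) := by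
  simp only [sigP, List.flatMap_cons, List.flatMap_nil, List.cons_append, List.nil_append, List.cons.injEq, and_true]
  refine ⟨?_, ?_, ?_, ?_, ?_, ?_, ?_, ?_, ?_, ?_, ?_, ?_, ?_, ?_, ?_, ?_, ?_, ?_, ?_, ?_, ?_⟩ <;>
    exact mag_rel (by norm_num) (h _ (by norm_num)) _ _

/-- The base of three places. -/
def base3 : List ℕ := [0, 2, 4]

/-- The admissible images of the base. -/
theorem base_image {σ : ↥M24} {c : Finset GolayPt} {hc : c ∈ CW}
    (h : ∀ k < 3, Out1.el σ c hc * ev1 (powP k) = ev1 (powP k) * Out1.el σ c hc) :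
    (idx (σ.1 (pt 0)), idx (σ.1 (pt 2)), idx (σ.1 (pt 4))) ∈ trpP := by
  have H := trp_ok
  simp only [trpOK, List.all_eq_true, List.mem_range] at H
  have := H _ (idx_lt (σ.1 (pt 0))) _ (idx_lt (σ.1 (pt 2))) _ (idx_lt (σ.1 (pt 4)))
  simp only [Bool.or_eq_true, List.contains_iff_mem, Bool.not_eq_true', List.any_eq_true, List.all_eq_true,
    List.mem_range] at this
  rcases this with (h1 | h1) | ⟨x, hx, h1⟩
  · exact h1
  · exfalso
    have hag : agreeP 0 2 4 (idx (σ.1 (pt 0))) (idx (σ.1 (pt 2))) (idx (σ.1 (pt 4))) = true := by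
      simp only [agreeP, List.all_eq_true, Bool.and_eq_true, Nat.beq_eq]
      intro k hk
      have hk3 : k < 3 := by simp at hk; omega
      have e := fun a b : GolayPt => mag_rel hk3 (h k hk3) a b
      have i0 : idx (pt 0) = 0 := idx_pt (by norm_num)
      have i2 : idx (pt 2) = 2 := idx_pt (by norm_num)
      have i4 : idx (pt 4) = 4 := idx_pt (by norm_num)
      refine ⟨?_, ?_, ?_, ?_, ?_, ?_, ?_, ?_, ?_⟩ <;> rw [e] <;> simp only [i0, i2, i4]
    rw [hag] at h1
    exact absurd h1 (by simp)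
  · exfalso
    have h2 := h1 (idx (σ.1 (pt x))) (idx_lt _)
    rw [sig_rel h, idx_pt (by norm_num), idx_pt (by norm_num), idx_pt (by norm_num), idx_pt hx] at h2
    simp at h2

/-- A commuting monomial map is determined by the images of the base. -/
theorem perm_unique {σ τ : ↥M24} {c d : Finset GolayPt} {hc : c ∈ CW} {hd : d ∈ CW}
    (hσ : ∀ k < 3, Out1.el σ c hc * ev1 (powP k) = ev1 (powP k) * Out1.el σ c hc)
    (hτ : ∀ k < 3, Out1.el τ d hd * ev1 (powP k) = ev1 (powP k) * Out1.el τ d hd)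
    (e : ∀ i ∈ base3, σ.1 (pt i) = τ.1 (pt i)) : σ = τ := by
  refine Subtype.ext (Equiv.ext fun x => ?_)
  by_cases hx : idx x ∈ base3
  · have := e _ hx
    rwa [pt_idx] at this
  obtain ⟨y, hy⟩ := τ.1.surjective (σ.1 x)
  have hy3 : idx y ∉ base3 := fun hm => hx (by
    have h1 := e _ hm
    rw [pt_idx, hy] at h1
    rw [show x = y from σ.1.injective h1.symm]
    exact hm)
  have h1 := sig_rel hσ (pt 0) (pt 2) (pt 4) x
  have h2 := sig_rel hτ (pt 0) (pt 2) (pt 4) y
  rw [hy, ← e 0 (by simp [base3]), ← e 2 (by simp [base3]), ← e 4 (by simp [base3]), h1,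
    idx_pt (by norm_num), idx_pt (by norm_num), idx_pt (by norm_num)] at h2
  have H := base_ok
  simp only [baseOK, List.all_eq_true, List.mem_range, Bool.or_eq_true, List.contains_iff_mem, Nat.beq_eq,
    Bool.not_eq_true', beq_eq_false_iff_ne] at H
  rcases H _ (idx_lt x) _ (idx_lt y) with ((h3 | h3) | h3) | h3
  · exact absurd h3 hx
  · exact absurd h3 hy3
  · rw [← hy, idx_injective h3]
  · exact absurd h2 h3

/-- Signs are determined by the permutation. -/
theorem sign_unique {σ : ↥M24} {c d : Finset GolayPt} {hc : c ∈ CW} {hd : d ∈ CW}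
    (hσ : Out1.el σ c hc * ev1 (powP 0) = ev1 (powP 0) * Out1.el σ c hc)
    (hτ : Out1.el σ d hd * ev1 (powP 0) = ev1 (powP 0) * Out1.el σ d hd) :
    d = c ∨ d = cᶜ := by
  obtain ⟨ε, hε, he⟩ := entry_rel (k := 0) (by norm_num) hσ
  obtain ⟨δ, hδ, hd'⟩ := entry_rel (k := 0) (by norm_num) hτ
  obtain ⟨h00, hedge⟩ := edge_ok
  have hs : ∀ a, sgnAt c a = 1 ∨ sgnAt c a = -1 := fun a => by rw [sgnAt]; split_ifs <;> simp
  have ht : ∀ a, sgnAt d a = 1 ∨ sgnAt d a = -1 := fun a => by rw [sgnAt]; split_ifs <;> simp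
  have hεδ : ε = δ := by
    have a1 := he (pt 0) (pt 0)
    have a2 := hd' (pt 0) (pt 0)
    rw [idx_pt (by norm_num : (0 : ℕ) < 24)] at a1 a2
    rcases hs (σ.1 (pt 0)) with s | s <;> rcases ht (σ.1 (pt 0)) with t | t <;> rw [s] at a1 <;> rw [t] at a2 <;>
      rcases hε with rfl | rfl <;> rcases hδ with rfl | rfl <;> simp at a1 a2 ⊢ <;> omega
  have hflip : ∀ i j : GolayPt, entP 0 (idx i) (idx j) ≠ 0 →
      sgnAt c (σ.1 j) * sgnAt d (σ.1 j) = sgnAt c (σ.1 i) * sgnAt d (σ.1 i) := by
    intro i j hne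
    have a1 := he i j
    have a2 := hd' i j
    rw [← hεδ] at a2
    rcases hs (σ.1 i) with s | s <;> rcases ht (σ.1 i) with t | t <;> rcases hs (σ.1 j) with s' | s' <;>
      rcases ht (σ.1 j) with t' | t' <;> rw [s, s'] at a1 <;> rw [t, t'] at a2 <;> rw [s, t, s', t'] <;>
      rcases hε with rfl | rfl <;> simp at a1 a2 ⊢ <;> omega
  set e : Finset GolayPt := σ.1⁻¹ • symmDiff c d with he'
  have hec : e ∈ CW := smul_CW (inv_mem σ.2) (CW_symmDiff hc hd)
  have hmem : ∀ i, i ∈ e ↔ σ.1 i ∈ symmDiff c d := fun i => by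
    rw [he', ← Finset.smul_mem_smul_finset_iff σ.1, smul_inv_smul]; rfl
  have hpar : ∀ i, i ∈ e ↔ sgnAt c (σ.1 i) * sgnAt d (σ.1 i) = -1 := fun i => by
    rw [hmem, Finset.mem_symmDiff, sgnAt, sgnAt]
    by_cases a : σ.1 i ∈ c <;> by_cases b : σ.1 i ∈ d <;> simp [a, b]
  have H := sign_ok
  simp only [signOK, List.all_eq_true, Bool.or_eq_true, List.any_eq_true] at H
  obtain ⟨w, hw, hs'⟩ := hec
  have hml : toMask e ∈ codeL := by rw [← hs']; exact toMask_support_mem hw
  rcases H _ hml with h1 | ⟨p, hp, h1⟩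
  · simp only [Nat.beq_eq] at h1
    have hemp : e = ∅ ∨ e = Finset.univ := by
      rcases h1 with h1 | h1
      · left; rw [← toSet_toMask e, h1]; exact toSet_zero_empty
      · right; rw [← toSet_toMask e, h1]; exact full_set
    rcases hemp with h0 | h0
    · left
      refine Finset.ext fun a => ?_
      obtain ⟨i, rfl⟩ := σ.1.surjective a
      have := hmem i
      rw [h0, Finset.mem_symmDiff] at this
      simp at this
      tauto
    · right
      refine Finset.ext fun a => ?_
      obtain ⟨i, rfl⟩ := σ.1.surjective a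
      have := hmem i
      rw [h0, Finset.mem_symmDiff] at this
      simp at this
      rw [Finset.mem_compl]
      tauto
  · exfalso
    obtain ⟨l1, l2, hne⟩ := hedge p hp
    have hf := hflip (pt p.1) (pt p.2) (by rw [idx_pt l1, idx_pt l2]; exact hne)
    have hiff : pt p.1 ∈ e ↔ pt p.2 ∈ e := by rw [hpar, hpar, hf]
    rw [← testBit_toMask (p := pt p.1), ← testBit_toMask (p := pt p.2), idx_pt l1, idx_pt l2] at hiff
    rw [bitF_eq, bitF_eq, Bool.xor_comm] at h1
    revert h1 hiff
    cases (toMask e).testBit p.1 <;> cases (toMask e).testBit p.2 <;> simp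

/-- The commuting monomial maps number at most seven. -/
theorem mono_seven_le {S : Subgroup Spor.Co1} (hS : ∀ x ∈ S, x ∈ Out1.NI ∧ ∀ k < 3, x * ev1 (powP k) = ev1 (powP k) * x) :
    Nat.card ↥S ≤ 7 := by
  classical
  haveI := OctInv.co1_finite
  have hdata : ∀ x : ↥S, ∃ σ : ↥M24, ∃ c, ∃ hc : c ∈ CW, (x : Spor.Co1) = Out1.el σ c hc := fun x =>
    Out1.mem_NI.mp (hS x x.2).1
  choose σf cf hcf hel using hdata
  have hcomm : ∀ x, ∀ k < 3, Out1.el (σf x) (cf x) (hcf x) * ev1 (powP k) = ev1 (powP k) * Out1.el (σf x) (cf x) (hcf x) :=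
    fun x k hk => by rw [← hel]; exact (hS x x.2).2 k hk
  cases nonempty_fintype ↥S
  rw [Nat.card_eq_fintype_card, ← Finset.card_univ]
  refine le_trans (Finset.card_le_card_of_injOn
    (fun x => (idx ((σf x).1 (pt 0)), idx ((σf x).1 (pt 2)), idx ((σf x).1 (pt 4))))
    (t := trpP.toFinset) (fun x _ => List.mem_toFinset.mpr (base_image (hcomm x))) fun x _ y _ e => Subtype.ext ?_)
    ((List.toFinset_card_le _).trans (le_of_eq rfl))
  simp only [Prod.mk.injEq] at e
  have hσ : σf x = σf y := perm_unique (hcomm x) (hcomm y) fun i hi => by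
    simp only [base3, List.mem_cons, List.not_mem_nil, or_false] at hi
    rcases hi with rfl | rfl | rfl
    exacts [idx_injective e.1, idx_injective e.2.1, idx_injective e.2.2]
  rw [hel x, hel y, Out1.el_eq]
  refine ⟨hσ, ?_⟩
  exact sign_unique (hc := hcf x) (hd := hcf y) (hcomm x 0 (by norm_num)) (by rw [Out1.el_congr (hd := hcf y) hσ rfl]; exact hcomm y 0 (by norm_num))

end CfsgLib.ConwayLocal
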