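import Cfsg.Agent.Lib.ConwayLocal.Data
import Cfsg.Agent.Lib.Golay.Classes

/-!
Permutations and code words commuting with a fixed-point-free element of order three.
-/

set_option autoImplicit false
set_option maxRecDepth 8000

namespace CfsgLib.ConwayLocal

open Cfsg CfsgGolay CfsgLeech CfsgLib.ConwayRec
open scoped Pointwise

attribute [local irreducible] codeL octadL dodecadL slpCodes

/-- Choices of images for the representatives. -/
def picks : List (ℕ × List ℕ) → List (List ℕ)
  | [] => [[]]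
  | p :: l => p.2.flatMap fun t => (picks l).map (t :: ·)

theorem mem_picks : ∀ (L : List (ℕ × List ℕ)) (f : ℕ → ℕ), (∀ p ∈ L, f p.1 ∈ p.2) →
    L.map (fun p => f p.1) ∈ picks L
  | [], _, _ => List.mem_singleton.mpr rfl
  | p :: l, f, h => by
    simp only [picks, List.map_cons, List.mem_flatMap, List.mem_map]
    exact ⟨f p.1, h p List.mem_cons_self, _, mem_picks l f fun q hq => h q (List.mem_cons_of_mem _ hq), rfl⟩

/-- The known places and images. -/
def pairsOf (im : List ℕ) : List (ℕ × List ℕ) → List ℕ → List (ℕ × ℕ)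
  | p :: l, t :: ts => (p.1, t) :: (papp sigC p.1, papp sigC t) ::
      (papp sigC (papp sigC p.1), papp sigC (papp sigC t)) :: pairsOf im l ts
  | _, _ => sixP.zip im

/-- The image recorded for a place. -/
def lookP : List (ℕ × ℕ) → ℕ → ℕ
  | [], _ => 0
  | p :: l, i => cond (Nat.beq p.1 i) p.2 (lookP l i)

theorem lookP_spec : ∀ (l : List (ℕ × ℕ)) (f : ℕ → ℕ) (i : ℕ), (∀ p ∈ l, p.2 = f p.1) → i ∈ l.map Prod.fst →
    lookP l i = f i
  | [], _, _, _, h => absurd h List.not_mem_nil
  | p :: l, f, i, hl, h => by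
    rw [lookP]
    cases hb : Nat.beq p.1 i
    · rw [cond_false]
      refine lookP_spec l f i (fun q hq => hl q (List.mem_cons_of_mem _ hq)) ?_
      rcases List.mem_cons.mp h with e | e
      · exact absurd e.symm (Nat.ne_of_beq_eq_false hb)
      · exact e
    · rw [cond_true, ← Nat.eq_of_beq_eq_true hb]
      exact hl p List.mem_cons_self

/-- The code of a choice. -/
def permOf (d : List ℕ × List (ℕ × ℕ) × List (ℕ × List ℕ)) (ts : List ℕ) : ℕ :=
  pack (fun i => lookP (pairsOf d.1 d.2.2 ts) i % 32) 24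

/-- The checks for one rotation. -/
noncomputable def caseOK (m : ℕ) : Bool :=
  let d := caseD.getD m ([], [], [])
  let im := d.1
  Nat.beq im.length 6 && (im.all fun i => Nat.blt i 24) &&
  ([0, 1, 2].all fun t => Nat.beq (im.getD t 0) (sixP.getD t 0)) &&
  Nat.beq (im.getD 3 0) (Nat.rec (sixP.getD 3 0) (fun _ x => papp sigC x) m) &&
  Nat.beq (im.getD 4 0) (papp sigC (im.getD 3 0)) && Nat.beq (im.getD 5 0) (papp sigC (im.getD 4 0)) &&
  (d.2.1.all fun o => octadL.contains o.1 && octadL.contains o.2 &&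
    Nat.ble 5 ((sixP.zip im).countP fun q => bitF o.1 q.1 && bitF o.2 q.2)) &&
  (d.2.2.all fun p => Nat.blt p.1 24 && !sixP.contains p.1 &&
    d.2.1.any fun o => bitF o.1 p.1 && (List.range 24).all fun i =>
      !bitF o.2 i || im.contains i || p.2.contains i) &&
  ((List.range 24).all fun i => ((pairsOf im d.2.2 (d.2.2.map fun _ => 0)).map Prod.fst).contains i) &&
  ((picks d.2.2).all fun ts => perR.contains (permOf d ts) ||
    genMasks.any fun g => !inCode (pullN (permOf d ts) g))

/-- The checks on the recorded permutations. -/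
noncomputable def permsOK : Bool :=
  ((perH ++ perK).all fun p => okM (p, 0) && Nat.beq (pcomp p sigC) (pcomp sigC p)) &&
  ((List.range 24).all fun i => Nat.beq (papp (perH.getD i 0) (sixP.getD 0 0)) i) &&
  (perK.all fun p => Nat.beq (papp p (sixP.getD 0 0)) (sixP.getD 0 0)) &&
  ((List.range 24).all fun j => cyA.contains j || covK.any fun e => Nat.beq e.1 j && Nat.blt e.2.1 3 &&
    Nat.blt e.2.2 perK.length &&
    Nat.beq (papp (perK.getD e.2.2 0) (Nat.rec (sixP.getD 3 0) (fun _ x => papp sigC x) e.2.1)) j) &&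
  Nat.beq sixP.length 6 && (sixP.all fun i => Nat.blt i 24) &&
  Nat.beq (sixP.getD 1 0) (papp sigC (sixP.getD 0 0)) && Nat.beq (sixP.getD 2 0) (papp sigC (sixP.getD 1 0)) &&
  Nat.beq (sixP.getD 4 0) (papp sigC (sixP.getD 3 0)) && Nat.beq (sixP.getD 5 0) (papp sigC (sixP.getD 4 0)) &&
  (cyA.all fun i => (sixP.take 3).contains i) && !cyA.contains (sixP.getD 3 0)

theorem perms_ok : permsOK = true := by
  unfold permsOK
  decide +kernel

theorem case_ok : (caseOK 0 && caseOK 1 && caseOK 2) = true := by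
  unfold caseOK
  decide +kernel

theorem pairs_fst (im : List ℕ) : ∀ (L : List (ℕ × List ℕ)) (ts us : List ℕ), ts.length = L.length →
    us.length = L.length → (pairsOf im L ts).map Prod.fst = (pairsOf im L us).map Prod.fst
  | [], [], [], _, _ => rfl
  | _ :: l, _ :: ts, _ :: us, h, h' => by
    simp only [pairsOf, List.map_cons, pairs_fst im l ts us (by simpa using h) (by simpa using h')]

/-- The permutation of the element of order three, as a function. -/
noncomputable def sigG : Equiv.Perm GolayPt := permDec sigC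

theorem sigC_ok : okM (sigC, 0) = true := by decide +kernel

theorem repr_sig : Repr sigC sigG := by
  obtain ⟨g, hg, -⟩ := (Valid.of_ok sigC_ok).2.2
  rw [sigG, permDec_eq hg]; exact hg

theorem sig_pt {i : ℕ} (hi : i < 24) : sigG (pt i) = pt (papp sigC i) := (repr_sig.apply_pt hi).symm ▸ rfl

attribute [local irreducible] sigG permDec

/-- An element commuting with the one of order three sending two cycles as recorded is recorded. -/
theorem case_code {m : ℕ} (hm : m < 3) {ρ : Equiv.Perm GolayPt} (hρ : ρ ∈ M24)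
    (hc : ∀ p, ρ (sigG p) = sigG (ρ p))
    (ha : ρ (pt (sixP.getD 0 0)) = pt (sixP.getD 0 0))
    (hb : ρ (pt (sixP.getD 3 0)) = pt (Nat.rec (sixP.getD 3 0) (fun _ x => papp sigC x) m)) :
    ρ ∈ perR.map permDec := by
  have H : caseOK m = true := by
    have h := case_ok
    simp only [Bool.and_eq_true] at h
    interval_cases m
    exacts [h.1.1, h.1.2, h.2]
  have P := perms_ok
  simp only [permsOK, Bool.and_eq_true, List.all_eq_true, Nat.blt_eq, Nat.beq_eq] at P
  obtain ⟨⟨⟨⟨⟨⟨⟨⟨-, p6⟩, p24⟩, p1⟩, p2⟩, p4⟩, p5⟩, -⟩, -⟩ := P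
  simp only [caseOK, Bool.and_eq_true, List.all_eq_true, List.contains_iff_mem, Nat.blt_eq, Nat.ble_eq, Nat.beq_eq,
    Bool.not_eq_true', List.any_eq_true, List.mem_range, Bool.or_eq_true] at H
  set d := caseD.getD m ([], [], []) with hd
  obtain ⟨⟨⟨⟨⟨⟨⟨⟨⟨hl, hlt⟩, i012⟩, i3⟩, i4⟩, i5⟩, h2⟩, h3⟩, h4⟩, h5⟩ := H
  have hsix : ∀ t, t < 6 → ρ (pt (sixP.getD t 0)) = pt (d.1.getD t 0) := by
    have lt6 : ∀ t, t < 6 → sixP.getD t 0 < 24 := fun t ht => by
      rw [List.getD_eq_getElem _ _ (by omega)]; exact p24 _ (List.getElem_mem _)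
    have ltI : ∀ t, t < 6 → d.1.getD t 0 < 24 := fun t ht => by
      rw [List.getD_eq_getElem _ _ (by omega)]; exact hlt _ (List.getElem_mem _)
    have e0 : ρ (pt (sixP.getD 0 0)) = pt (d.1.getD 0 0) := by rw [ha, i012 0 (by simp)]
    have step : ∀ t u, t < 6 → sixP.getD u 0 = papp sigC (sixP.getD t 0) →
        d.1.getD u 0 = papp sigC (d.1.getD t 0) → ρ (pt (sixP.getD t 0)) = pt (d.1.getD t 0) →
        ρ (pt (sixP.getD u 0)) = pt (d.1.getD u 0) := fun t u ht e e' h => by
      rw [e, e', ← sig_pt (lt6 t ht), hc, h, sig_pt (ltI t ht)]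
    have e3 : ρ (pt (sixP.getD 3 0)) = pt (d.1.getD 3 0) := by rw [hb, i3]
    have e1 := step 0 1 (by norm_num) p1 (by rw [i012 1 (by simp), i012 0 (by simp), p1]) e0
    have e2 := step 1 2 (by norm_num) p2 (by rw [i012 2 (by simp), i012 1 (by simp), p2]) e1
    have e4 := step 3 4 (by norm_num) p4 i4 e3
    have e5 := step 4 5 (by norm_num) p5 i5 e4
    intro t ht
    interval_cases t <;> assumption
  let f : ℕ → ℕ := fun i => idx (ρ (pt i))
  have hzip : ∀ q ∈ sixP.zip d.1, q.1 < 24 ∧ q.2 < 24 ∧ ρ (pt q.1) = pt q.2 := by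
    intro q hq
    obtain ⟨t, ht, rfl⟩ := List.getElem_of_mem hq
    rw [List.length_zip, p6, hl, Nat.min_self] at ht
    rw [List.getElem_zip]
    have := hsix t ht
    rw [List.getD_eq_getElem _ _ (by omega), List.getD_eq_getElem _ _ (by omega)] at this
    exact ⟨p24 _ (List.getElem_mem _), hlt _ (List.getElem_mem _), this⟩
  have hoct : ∀ o ∈ d.2.1, ρ • toSet o.1 = toSet o.2 := by
    intro o ho
    obtain ⟨⟨ho1, ho2⟩, h5c⟩ := h2 o ho
    have hO : ∀ {n : ℕ}, n ∈ octadL → toSet n ∈ octads := fun hn =>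
      mem_octads.mpr (by rw [toMask_toSet (octadL_lt hn)]; exact hn)
    let S : Finset GolayPt := (((sixP.zip d.1).filter fun q => bitF o.1 q.1 && bitF o.2 q.2).map fun q => pt q.2).toFinset
    have hS : ∀ p ∈ S, p ∈ toSet o.2 ∧ p ∈ ρ • toSet o.1 := by
      intro p hp
      simp only [S, List.mem_toFinset, List.mem_map, List.mem_filter, Bool.and_eq_true] at hp
      obtain ⟨q, ⟨hq, hq1, hq2⟩, rfl⟩ := hp
      obtain ⟨l1, l2, e⟩ := hzip q hq
      refine ⟨by rw [mem_toSet, idx_pt l2, ← bitF_eq]; exact hq2, ?_⟩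
      rw [← e]
      exact Finset.smul_mem_smul_finset (by rw [mem_toSet, idx_pt l1, ← bitF_eq]; exact hq1)
    refine octad_unique (smul_mem_octads hρ (hO ho1)) (hO ho2) (s := S) ?_ (fun p hp => (hS p hp).2)
      fun p hp => (hS p hp).1
    have hnd : (((sixP.zip d.1).filter fun q => bitF o.1 q.1 && bitF o.2 q.2).map fun q => pt q.2).Nodup := by
      refine List.Nodup.map_on (fun a ha b hb e => ?_) (List.Nodup.filter _ ?_)
      · obtain ⟨a1, a2, ea⟩ := hzip a (List.mem_filter.mp ha).1
        obtain ⟨b1, b2, eb⟩ := hzip b (List.mem_filter.mp hb).1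
        have e1 := congrArg idx (ρ.injective ((ea.trans e).trans eb.symm))
        have e2 := congrArg idx e
        rw [idx_pt a1, idx_pt b1] at e1
        rw [idx_pt a2, idx_pt b2] at e2
        exact Prod.ext e1 e2
      · have hn : sixP.Nodup := by decide
        exact List.Nodup.of_map Prod.fst (by
          rw [List.map_fst_zip (by omega)]; exact hn)
    rw [List.card_toFinset, hnd.dedup, List.length_map, ← List.countP_eq_length_filter]
    exact h5c
  have hpick : ∀ p ∈ d.2.2, f p.1 ∈ p.2 := by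
    intro p hp
    obtain ⟨⟨hlt1, hno⟩, o, ho, hbit, hall⟩ := h3 p hp
    have hx : ρ (pt p.1) ∈ toSet o.2 := by
      rw [← hoct o ho]
      exact Finset.smul_mem_smul_finset (by rw [mem_toSet, idx_pt hlt1, ← bitF_eq]; exact hbit)
    rw [mem_toSet, ← bitF_eq] at hx
    rcases hall _ (idx_lt (ρ (pt p.1))) with (h | h) | h
    · rw [hx] at h; simp at h
    · exfalso
      obtain ⟨t, ht, he⟩ := List.getElem_of_mem h
      have hz := hzip (sixP[t]'(by omega), d.1[t]) (List.mem_iff_getElem.mpr
        ⟨t, by rw [List.length_zip, p6, hl, Nat.min_self]; omega, List.getElem_zip⟩)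
      have e : pt (sixP[t]'(by omega)) = pt p.1 := ρ.injective (by rw [hz.2.2, he, pt_idx])
      have := congrArg idx e
      rw [idx_pt hz.1, idx_pt hlt1] at this
      simp [← this] at hno
    · exact h
  let ts := d.2.2.map fun p => f p.1
  have hts : ts ∈ picks d.2.2 := mem_picks _ _ hpick
  have hf : ∀ i < 24, f (papp sigC i) = papp sigC (f i) := fun i hi => by
    show idx (ρ (pt (papp sigC i))) = papp sigC (idx (ρ (pt i)))
    rw [← sig_pt hi, hc, repr_sig]
  have hsl : ∀ i < 24, papp sigC i < 24 := fun i hi => by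
    rw [← idx_pt hi, ← repr_sig]; exact idx_lt _
  have hpairs : ∀ (L : List (ℕ × List ℕ)), (∀ p ∈ L, p.1 < 24) →
      ∀ q ∈ pairsOf d.1 L (L.map fun p => f p.1), q.2 = f q.1 := by
    intro L
    induction L with
    | nil =>
      intro _ q hq
      obtain ⟨l1, l2, e⟩ := hzip q (by simpa [pairsOf] using hq)
      show q.2 = idx (ρ (pt q.1))
      rw [e, idx_pt l2]
    | cons p L ih =>
      intro hL q hq
      have hp := hL p List.mem_cons_self
      simp only [pairsOf, List.map_cons, List.mem_cons] at hq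
      rcases hq with rfl | rfl | rfl | hq
      · rfl
      · exact (hf _ hp).symm
      · show papp sigC (papp sigC (f p.1)) = f (papp sigC (papp sigC p.1))
        rw [hf _ (hsl _ hp), hf _ hp]
      · exact ih (fun r hr => hL r (List.mem_cons_of_mem _ hr)) q hq
  have hrep : Repr (permOf d ts) ρ := by
    intro x
    rw [permOf, ((pack_spec _ fun i => Nat.mod_lt _ (by norm_num : 32 > 0)) 24).2 _ (idx_lt x)]
    rw [lookP_spec _ f _ (hpairs d.2.2 fun p hp => (h3 p hp).1.1) (by
      rw [pairs_fst d.1 d.2.2 _ (d.2.2.map fun _ => 0) (by simp) (by simp)]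
      exact h4 _ (idx_lt x))]
    show _ = idx (ρ (pt (idx x))) % 32
    rw [pt_idx, Nat.mod_eq_of_lt (lt_trans (idx_lt _) (by norm_num))]
  rcases h5 ts hts with e | ⟨g, hg, hg2⟩
  · exact List.mem_map.mpr ⟨_, e, permDec_eq hrep⟩
  · exfalso
    have hC : toSet g ∈ CW := ⟨_, genMask_mem hg, support_wordOf g⟩
    obtain ⟨w, hw, hs⟩ := smul_CW (inv_mem hρ) hC
    have := inCode_of_mem hw
    rw [hs, ← toSet_pull hrep, toMask_toSet (pull_lt _ _)] at this
    rw [this] at hg2
    exact absurd hg2 (by simp)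

/-- The list of permutations commuting with the element of order three. -/
noncomputable def cenL : List (Equiv.Perm GolayPt) :=
  perH.flatMap fun h => perK.flatMap fun k => perR.map fun r => permDec h * permDec k * permDec r

/-- The permutations commuting with the element of order three. -/
noncomputable def cenS : Finset (Equiv.Perm GolayPt) := cenL.toFinset

theorem length_three {α β γ δ : Type*} (A : List α) (B : List β) (C : List γ) (f : α → β → γ → δ) :
    (A.flatMap fun a => B.flatMap fun b => C.map (f a b)).length = A.length * (B.length * C.length) := by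
  induction A with
  | nil => simp
  | cons a A ih => simp [List.flatMap_cons, ih, Nat.succ_mul, Nat.add_comm]

theorem three_lengths : perH.length = 24 ∧ perK.length = 7 ∧ perR.length = 3 := by decide +kernel

theorem cenL_length : cenL.length = 504 := by
  rw [cenL, length_three, three_lengths.1, three_lengths.2.1, three_lengths.2.2]

theorem cenS_card : cenS.card ≤ 504 := (List.toFinset_card_le cenL).trans (le_of_eq cenL_length)

theorem comm_inv_mul {α : Type*} {h π σ : Equiv.Perm α} (hC : ∀ x, h (σ x) = σ (h x))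
    (hc : ∀ x, π (σ x) = σ (π x)) (p : α) : (h⁻¹ * π) (σ p) = σ ((h⁻¹ * π) p) := by
  rw [Equiv.Perm.mul_apply, Equiv.Perm.mul_apply, hc, Equiv.Perm.inv_eq_iff_eq, hC]
  exact congrArg σ (Equiv.apply_symm_apply h _).symm

theorem inv_mul_to {α : Type*} {h π : Equiv.Perm α} {x y : α} (e : h y = π x) : (h⁻¹ * π) x = y := by
  rw [Equiv.Perm.mul_apply, ← e]
  exact Equiv.symm_apply_apply h _

theorem apply_comm {α : Type*} {g s : Equiv.Perm α} (e : g * s = s * g) (x : α) : g (s x) = s (g x) := by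
  rw [← Equiv.Perm.mul_apply, e, Equiv.Perm.mul_apply]

theorem fix_step {α : Type*} {g s : Equiv.Perm α} (hc : ∀ x, g (s x) = s (g x)) {x y : α} (e : s x = y) (h : g x = x) :
    g y = y := by
  rw [← e, hc, h]

theorem take_three : ∀ x ∈ sixP.take 3, x = sixP.getD 0 0 ∨ x = sixP.getD 1 0 ∨ x = sixP.getD 2 0 := by
  decide +kernel

theorem not_take_three : sixP.getD 3 0 ∉ sixP.take 3 := by decide +kernel

theorem mem_cenS {π : Equiv.Perm GolayPt} (hπ : π ∈ M24) (hc : ∀ p, π (sigG p) = sigG (π p)) : π ∈ cenS := by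
  have P := perms_ok
  simp only [permsOK, Bool.and_eq_true, List.all_eq_true, Nat.blt_eq, Nat.beq_eq, List.mem_range, List.contains_iff_mem,
    Bool.or_eq_true, List.any_eq_true] at P
  obtain ⟨⟨⟨⟨⟨⟨⟨⟨⟨⟨⟨pH, pa⟩, pK⟩, pcov⟩, p6⟩, p24⟩, p1⟩, p2⟩, -⟩, -⟩, pA⟩, -⟩ := P
  set a := sixP.getD 0 0
  set b := sixP.getD 3 0
  have hgood : ∀ p ∈ perH ++ perK, ∃ g, permDec p = g ∧ g ∈ M24 ∧ Repr p g ∧
      ∀ x, g (sigG x) = sigG (g x) := by
    intro p hp
    obtain ⟨g, hg, hM⟩ := (Valid.of_ok (pH p hp).1).2.2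
    have e : g * sigG = sigG * g := by
      rw [← permDec_eq (hg.comp repr_sig), (pH p hp).2, permDec_eq (repr_sig.comp hg)]
    exact ⟨g, permDec_eq hg, hM, hg, fun x => apply_comm e x⟩
  have l6 : ∀ t, t < 6 → sixP.getD t 0 < 24 := fun t ht => by
    rw [List.getD_eq_getElem _ _ (by omega)]; exact p24 _ (List.getElem_mem _)
  set i := idx (π (pt a))
  have hi : perH.getD i 0 ∈ perH := by
    rw [List.getD_eq_getElem _ _ (lt_of_lt_of_eq (idx_lt (π (pt a))) (rfl : perH.length = 24).symm)]; exact List.getElem_mem _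
  obtain ⟨h, hdef, hM, hR, hC⟩ := hgood _ (List.mem_append_left _ hi)
  have hha : h (pt a) = π (pt a) := by
    rw [hR.apply_pt (l6 0 (by norm_num)), pa i (idx_lt _), pt_idx]
  obtain ⟨π1, hπ1⟩ : ∃ x, x = h⁻¹ * π := ⟨_, rfl⟩
  have h1a : π1 (pt a) = pt a := by rw [hπ1]; exact inv_mul_to hha
  have h1c : ∀ p, π1 (sigG p) = sigG (π1 p) := by rw [hπ1]; exact comm_inv_mul hC hc
  rcases pcov _ (idx_lt (π1 (pt b))) with hA | ⟨e, -, ⟨⟨ej, em⟩, et⟩, ek⟩
  · exfalso
    have h6 : idx (π1 (pt b)) ∈ sixP.take 3 := pA _ hA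
    have hfix : ∀ x ∈ sixP.take 3, π1 (pt x) = pt x := by
      have e1 : π1 (pt (sixP.getD 1 0)) = pt (sixP.getD 1 0) :=
        fix_step h1c ((sig_pt (l6 0 (by norm_num))).trans (congrArg pt p1.symm)) h1a
      have e2 : π1 (pt (sixP.getD 2 0)) = pt (sixP.getD 2 0) :=
        fix_step h1c ((sig_pt (l6 1 (by norm_num))).trans (congrArg pt p2.symm)) e1
      intro x hx
      rcases take_three x hx with e | e | e <;> rw [e]
      exacts [h1a, e1, e2]
    have := hfix _ h6
    rw [pt_idx] at this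
    have e := congrArg idx (π1.injective this)
    rw [idx_pt (l6 3 (by norm_num))] at e
    rw [e] at h6
    exact not_take_three h6
  · have hk : perK.getD e.2.2 0 ∈ perK := by
      rw [List.getD_eq_getElem _ _ et]; exact List.getElem_mem _
    obtain ⟨k, kdef, kM, kR, kC⟩ := hgood _ (List.mem_append_right _ hk)
    have hka : k (pt a) = pt a := by rw [kR.apply_pt (l6 0 (by norm_num)), pK _ hk]
    have hlt : ∀ m : ℕ, (Nat.rec b (fun _ x => papp sigC x) m : ℕ) < 24 := by
      intro m
      induction m with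
      | zero => exact l6 3 (by norm_num)
      | succ m ih =>
        show papp sigC (Nat.rec b (fun _ x => papp sigC x) m) < 24
        rw [← idx_pt ih, ← repr_sig]; exact idx_lt _
    have hkb : k (pt (Nat.rec b (fun _ x => papp sigC x) e.2.1)) = π1 (pt b) := by
      rw [kR.apply_pt (hlt _), ek, pt_idx]
    obtain ⟨π2, hπ2⟩ : ∃ x, x = k⁻¹ * π1 := ⟨_, rfl⟩
    have h2c : ∀ p, π2 (sigG p) = sigG (π2 p) := by rw [hπ2]; exact comm_inv_mul kC h1c
    have h2a : π2 (pt a) = pt a := by rw [hπ2]; exact inv_mul_to (hka.trans h1a.symm)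
    have h2b : π2 (pt b) = pt (Nat.rec b (fun _ x => papp sigC x) e.2.1) := by rw [hπ2]; exact inv_mul_to hkb
    have hmem := case_code (ρ := π2) em (by rw [hπ2, hπ1]; exact mul_mem (inv_mem kM) (mul_mem (inv_mem hM) hπ)) h2c h2a h2b
    obtain ⟨r, hr, he⟩ := List.mem_map.mp hmem
    simp only [cenS, cenL, List.mem_toFinset, List.mem_flatMap, List.mem_map]
    refine ⟨_, hi, _, hk, r, hr, ?_⟩
    rw [he, hdef, kdef, hπ2, hπ1]
    simp [mul_assoc]

/-- The normal forms of fixed code words. -/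
noncomputable def maskOK : Bool :=
  codeL.all fun m => !(Nat.beq (pullN sigC m) m || Nat.beq (pullN sigC m) (m ^^^ 16777215)) || fixW.contains (nmM m)

theorem mask_ok : maskOK = true := by
  unfold maskOK codeL
  decide +kernel

end CfsgLib.ConwayLocal
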