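import Cfsg.Agent.Lib.ConwayLocal.Elem
import Cfsg.Agent.Lib.ConwayLocal.MonoThree

/-!
The normaliser of a subgroup of order three in the first Conway group.
-/

set_option autoImplicit false
set_option maxRecDepth 8000

namespace CfsgLib.ConwayLocal

open Cfsg CfsgGolay CfsgLeech CfsgLeechOrb CfsgLib.ConwayRec
open CfsgLib.CoTwoMult (forceN forceN_eq runC runC_spec axCode ax_vec)
open CfsgLeech.OctInv (prj)
open scoped Pointwise

attribute [local irreducible] codeL octadL dodecadL slpCodes mco mv sigG permDec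

/-- The checks on the element of order three and its complement. -/
noncomputable def nineOK : Bool :=
  carmOK wordX && Nat.beq wordX.length 7 && movesOK (wordX.getD 0 []) && wordT.all okM && movesOK wordW &&
    colOK wordW matW && same1 (cat wordW (cat wordW wordW)) [oneM] && same1 (cat wordT wordT) [oneM] &&
    same1 (cat wordT (cat wordW wordT)) (cat wordW wordW) &&
    (wordX.all fun A => same1 (cat A wordW) (cat wordW A) && same1 (cat A wordT) (cat wordT A))

theorem nine_ok : nineOK = true := by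
  unfold nineOK
  decide +kernel

/-- A kernel certificate on coded classes. -/
noncomputable def certOK (Lc R P K : List ℕ) : Bool :=
  (List.range 24).all fun k => Nat.beq (apN R (Lc.getD k 0) ^^^ apN K (P.getD k 0)) (Nat.pow 2 k)

theorem single_vecM (k : Fin 24) : (Pi.single k 1 : Fin 24 → ZMod 2) = vecM (2 ^ k.val) := by
  funext l
  rw [vecM, Nat.testBit_two_pow]
  by_cases h : k = l
  · subst h; simp
  · rw [Pi.single_eq_of_ne (Ne.symm h), decide_eq_false (fun e => h (Fin.ext e))]
    rfl

theorem cert_spec {Lc R P K : List ℕ} (h : certOK Lc R P K = true) {L : (Fin 24 → ZMod 2) →ₗ[ZMod 2] (Fin 24 → ZMod 2)}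
    (hL : ∀ k : Fin 24, L (Pi.single k 1) = vecM (Lc.getD k.val 0)) (k : Fin 24) :
    Pi.single k 1 = linM R (L (Pi.single k 1)) + linM K (vecM (P.getD k.val 0)) := by
  simp only [certOK, List.all_eq_true, List.mem_range] at h
  rw [hL, ← apN_spec, ← apN_spec, ← vecM_xor, Nat.eq_of_beq_eq_true (h k.val k.isLt), single_vecM]
  rfl

theorem linM_single (L : List ℕ) (k : Fin 24) : linM L (Pi.single k 1) = vecM (L.getD k.val 0) := by
  rw [linM, Fintype.linearCombination_apply_single, one_smul]

/-- The columns of the difference from the identity. -/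
def lcW : List ℕ := (List.range 24).map fun k => matW.getD k 0 ^^^ 2 ^ k

theorem certW : certOK lcW invW prjW kerW = true := by
  unfold certOK lcW
  decide +kernel

theorem kerw_length : kerW.length = 8 := rfl

/-- The element of order three. -/
noncomputable def wE : Spor.Co1 := ev1 wordW

/-- The involution inverting it. -/
noncomputable def tE : Spor.Co1 := ev1 wordT

theorem vwW : VW wordW := vw_of_ok (by decide +kernel)

theorem vwT : VW wordT := vw_of_ok (by decide +kernel)

theorem vwX {A : List Mon} (h : A ∈ wordX) : VW A := by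
  have H := nine_ok
  simp only [nineOK, carmOK, Bool.and_eq_true, List.all_eq_true] at H
  exact vw_of_ok (List.all_eq_true.mpr (H.1.1.1.1.1.1.1.1.1.1 A h).1)

theorem mperm_sig (h : Valid ((sigC, 0) : Mon)) : (mperm (sigC, 0) h : Equiv.Perm GolayPt) = sigG⁻¹ :=
  mperm_eq h repr_sig

theorem wE_el (h : Valid ((sigC, 0) : Mon)) : wE = Out1.el (mperm (sigC, 0) h) (toSet 0) h.2.1 := by
  rw [← mv_el h]
  rfl

theorem ev1_single (n : Mon) : ev1 [n] = (mv n : Spor.Co1) := rfl

theorem wE_mem : wE ∈ Out1.NI := by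
  rw [wE, show wordW = [((sigC, 0) : Mon)] from rfl, ev1_single]
  exact (mv _).2

theorem mask_mem_code {c : Finset GolayPt} (hc : c ∈ CW) : toMask c ∈ codeL := by
  obtain ⟨w, hw, rfl⟩ := hc
  exact toMask_support_mem hw

theorem centralizer_stab_le : Nat.card ↥(Subgroup.centralizer ({wE} : Set Spor.Co1) ⊓ modImg (ax none)) ≤ 4032 := by
  haveI := OctInv.co1_finite
  rw [← Out1.NI_eq]
  have hv : Valid ((sigC, 0) : Mon) := Valid.of_ok sigC_ok
  let T : Finset (Equiv.Perm GolayPt × ℕ) := cenS ×ˢ fixW.toFinset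
  have hT : T.card ≤ 4032 := by
    rw [Finset.card_product]
    calc cenS.card * fixW.toFinset.card ≤ 504 * 8 :=
        Nat.mul_le_mul cenS_card ((List.toFinset_card_le _).trans (le_of_eq rfl))
      _ = 4032 := rfl
  have hdata : ∀ x : ↥(Subgroup.centralizer ({wE} : Set Spor.Co1) ⊓ Out1.NI), ∃ σ : ↥M24, ∃ c, ∃ hc : c ∈ CW,
      (x : Spor.Co1) = Out1.el σ c hc ∧ ((σ : Equiv.Perm GolayPt), nmM (toMask c)) ∈ T := by
    rintro ⟨x, hxC, hxN⟩
    obtain ⟨σ, c, hc, rfl⟩ := Out1.mem_NI.mp hxN
    refine ⟨σ, c, hc, rfl, ?_⟩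
    have hcomm := Subgroup.mem_centralizer_singleton_iff.mp hxC
    rw [wE_el hv, Out1.el_mul, Out1.el_mul, Out1.el_eq] at hcomm
    obtain ⟨hp, hsgn⟩ := hcomm
    have hp' : (σ : Equiv.Perm GolayPt) * sigG⁻¹ = sigG⁻¹ * σ := by
      rw [← mperm_sig hv, ← Subgroup.coe_mul, ← Subgroup.coe_mul, hp]
    have hpc : ∀ p, (σ : Equiv.Perm GolayPt) (sigG p) = sigG ((σ : Equiv.Perm GolayPt) p) := fun p =>
      apply_comm (Commute.inv_right_iff.mp (show Commute (σ : Equiv.Perm GolayPt) sigG⁻¹ from hp')).eq p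
    refine Finset.mk_mem_product (mem_cenS σ.2 hpc) (List.mem_toFinset.mpr ?_)
    set m := toMask c with hm
    have hml : m ∈ codeL := mask_mem_code hc
    have hfull : toSet (m ^^^ 16777215) = cᶜ := by
      rw [toSet_xor, full_set, hm, toSet_toMask, ← Finset.top_eq_univ, symmDiff_top, hnot_eq_compl]
    have hpull : toSet (pullN sigC m) = (mperm (sigC, 0) hv : Equiv.Perm GolayPt) • c := by
      rw [show pullN sigC m = pullN ((sigC, 0) : Mon).1 m from rfl, toSet_pull' hv, hm, toSet_toMask]
    have hcases : (mperm (sigC, 0) hv : Equiv.Perm GolayPt) • c = c ∨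
        (mperm (sigC, 0) hv : Equiv.Perm GolayPt) • c = cᶜ := by
      have e0 : ∀ c : Finset GolayPt, symmDiff c ∅ = c := fun c => symmDiff_bot c
      have e1 : ∀ c : Finset GolayPt, symmDiff ∅ c = c := fun c => bot_symmDiff c
      simp only [toSet_zero_empty, Finset.smul_finset_empty, e0, e1] at hsgn
      rcases hsgn with e | e
      · exact Or.inl e
      · exact Or.inr (by first | exact e | rw [e, compl_compl] | rw [← e, compl_compl])
    have H := mask_ok
    simp only [maskOK, List.all_eq_true] at H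
    have := H m hml
    simp only [Bool.or_eq_true, Bool.not_eq_true', Bool.or_eq_false_iff, List.contains_iff_mem] at this
    rcases this with ⟨h1, h2⟩ | h
    · exfalso
      rcases hcases with e | e
      · have : pullN sigC m = m := eq_of_toSet_eq (pull_lt _ _) (toMask_lt _) (by rw [hpull, e, hm, toSet_toMask])
        rw [this] at h1; simp at h1
      · have : pullN sigC m = m ^^^ 16777215 := eq_of_toSet_eq (pull_lt _ _)
          (Nat.xor_lt_two_pow (toMask_lt _) (by norm_num)) (by rw [hpull, e, hfull])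
        rw [this] at h2; simp at h2
    · exact h
  choose σf cf hcf hel hmem using hdata
  cases nonempty_fintype ↥(Subgroup.centralizer ({wE} : Set Spor.Co1) ⊓ Out1.NI)
  rw [Nat.card_eq_fintype_card, ← Finset.card_univ]
  refine le_trans (Finset.card_le_card_of_injOn (fun x => ((σf x : Equiv.Perm GolayPt), nmM (toMask (cf x))))
    (fun x _ => hmem x) fun x _ y _ e => Subtype.ext ?_) hT
  rw [hel x, hel y, Out1.el_eq]
  obtain ⟨e1, e2⟩ := Prod.ext_iff.mp e
  simp only at e1 e2
  refine ⟨Subtype.ext e1, ?_⟩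
  obtain ⟨-, -, hx⟩ := nm_valid (toMask_lt (cf x)) (by rw [toSet_toMask]; exact hcf x)
  obtain ⟨-, -, hy⟩ := nm_valid (toMask_lt (cf y)) (by rw [toSet_toMask]; exact hcf y)
  rw [toSet_toMask] at hx hy
  rcases hx with hx | hx <;> rcases hy with hy | hy <;> rw [e2, hy] at hx
  exacts [Or.inl hx, Or.inr (by first | exact hx | rw [← hx, compl_compl] | rw [hx, compl_compl]),
    Or.inr (by first | exact hx | rw [← hx, compl_compl] | rw [hx, compl_compl]), Or.inl (compl_injective hx)]

/-- The linear map of the difference from the identity. -/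
noncomputable def lW : (Fin 24 → ZMod 2) →ₗ[ZMod 2] (Fin 24 → ZMod 2) := linM matW + LinearMap.id

theorem lcW_get : ∀ k < 24, lcW.getD k 0 = matW.getD k 0 ^^^ 2 ^ k := by decide +kernel

theorem lW_single (k : Fin 24) : lW (Pi.single k 1) = vecM (lcW.getD k.val 0) := by
  rw [lW, LinearMap.add_apply, linM_single, LinearMap.id_apply, single_vecM, ← vecM_xor]
  congr 1
  exact (lcW_get k.val k.isLt).symm

theorem cent_card_le : Nat.card ↥(Subgroup.centralizer ({wE} : Set Spor.Co1)) ≤ 256 * 4032 := by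
  refine card_le_classes (ax none) (L := lW) (fun x hx => ?_) ?_ centralizer_stab_le
  · obtain ⟨g, rfl⟩ := exists_lift x
    have hcol : colOK wordW matW = true := by
      have H := nine_ok
      simp only [nineOK, Bool.and_eq_true] at H
      exact H.1.1.1.1.2
    rw [cls_prj, lW, LinearMap.add_apply, LinearMap.id_apply, ← phiH_word vwW hcol]
    have hw : Cg (ev0 wordW • ax none) (ax none) := mem_modImg.mp (by
      rw [← Out1.NI_eq]
      show prj (ev0 wordW) ∈ Out1.NI
      rw [prj_ev0]; exact wE_mem)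
    have e : phiH (ev0 wordW • (g • ax none)) = phiH (g • ax none) := by
      have h1 : prj (ev0 wordW * g) = prj (g * ev0 wordW) := by
        rw [map_mul, map_mul, prj_ev0]
        exact (Subgroup.mem_centralizer_singleton_iff.mp hx).symm
      rw [← mul_smul, ← cls_prj, h1, cls_prj, mul_smul]
      exact phiH_iff.mpr (Cg.map' g hw)
    rw [e]
    funext k
    exact self_add _
  · refine (card_fixed lW invW prjW kerW (cert_spec certW lW_single) (by rw [kerw_length]; norm_num)).trans ?_
    rw [kerw_length]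
    norm_num

theorem wE_ne : wE ≠ 1 := by
  have H := nine_ok
  simp only [nineOK, Bool.and_eq_true] at H
  exact ne_one_of_moves vwW H.1.1.1.1.1.2

theorem wE_cube : wE ^ 3 = 1 := by
  have H := nine_ok
  simp only [nineOK, Bool.and_eq_true] at H
  have := ev1_eq (vwW.catW (vwW.catW vwW)) vw_one H.1.1.1.2
  rw [ev1_one, ev1_cat vwW (vwW.catW vwW), ev1_cat vwW vwW] at this
  rw [pow_succ, pow_two, mul_assoc]
  exact this

theorem wE_order : orderOf wE = 3 := orderOf_eq_prime wE_cube wE_ne

theorem tE_rel : tE * tE = 1 ∧ tE * (wE * tE) = wE * wE := by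
  have H := nine_ok
  simp only [nineOK, Bool.and_eq_true] at H
  constructor
  · have := ev1_eq (vwT.catW vwT) vw_one H.1.1.2
    rwa [ev1_one, ev1_cat vwT vwT] at this
  · have := ev1_eq (vwT.catW (vwW.catW vwT)) (vwW.catW vwW) H.1.2
    rwa [ev1_cat vwT (vwW.catW vwT), ev1_cat vwW vwT, ev1_cat vwW vwW] at this

theorem gen_comm (i : ℕ) (hi : i < 7) :
    ev1 (wordX.getD i []) * wE = wE * ev1 (wordX.getD i []) ∧ ev1 (wordX.getD i []) * tE = tE * ev1 (wordX.getD i []) := by
  have H := nine_ok
  simp only [nineOK, Bool.and_eq_true, List.all_eq_true] at H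
  have hlen : wordX.length = 7 := Nat.eq_of_beq_eq_true H.1.1.1.1.1.1.1.1.2
  have hmem : wordX.getD i [] ∈ wordX := by
    rw [List.getD_eq_getElem _ _ (by omega)]; exact List.getElem_mem _
  have hA := vwX hmem
  obtain ⟨h1, h2⟩ := H.2 _ hmem
  constructor
  · have := ev1_eq (hA.catW vwW) (vwW.catW hA) h1
    rwa [ev1_cat hA vwW, ev1_cat vwW hA] at this
  · have := ev1_eq (hA.catW vwT) (vwT.catW hA) h2
    rwa [ev1_cat hA vwT, ev1_cat vwT hA] at this

theorem exists_nine : ∃ φ : alternatingGroup (Fin 9) →* Spor.Co1, Function.Injective φ ∧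
    ∀ g, φ g * wE = wE * φ g ∧ φ g * tE = tE * φ g := by
  have H := nine_ok
  simp only [nineOK, Bool.and_eq_true] at H
  have hlen : wordX.length = 7 := Nat.eq_of_beq_eq_true H.1.1.1.1.1.1.1.1.2
  obtain ⟨φ, hφ, hcl⟩ := alt_embed (n := 7) (by norm_num) (carm_of_ok H.1.1.1.1.1.1.1.1.1 hlen.ge) ⟨0, by norm_num⟩
    (ne_one_of_moves (vwX (by
      rw [List.getD_eq_getElem _ _ (by omega)]; exact List.getElem_mem _)) H.1.1.1.1.1.1.1.2)
  refine ⟨φ, hφ, fun g => ?_⟩
  have h1 : Subgroup.closure (Set.range fun i : Fin 7 => ev1 (wordX.getD i.val [])) ≤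
      Subgroup.centralizer ({wE} : Set Spor.Co1) ⊓ Subgroup.centralizer ({tE} : Set Spor.Co1) :=
    (Subgroup.closure_le _).mpr (by
      rintro _ ⟨i, rfl⟩
      exact ⟨Subgroup.mem_centralizer_singleton_iff.mpr (gen_comm i i.isLt).1,
        Subgroup.mem_centralizer_singleton_iff.mpr (gen_comm i i.isLt).2⟩)
  obtain ⟨ha, hb⟩ := h1 (hcl g)
  exact ⟨Subgroup.mem_centralizer_singleton_iff.mp ha, Subgroup.mem_centralizer_singleton_iff.mp hb⟩

end CfsgLib.ConwayLocal
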