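import Cfsg.Agent.Lib.ConwayLocal.Nine
import Cfsg.Agent.Lib.ConwayLocal.MonoSeven

/-!
The centraliser of a fixed-point-free element of order seven in the first Conway group.
-/

set_option autoImplicit false
set_option maxRecDepth 8000

namespace CfsgLib.ConwayLocal

open Cfsg CfsgGolay CfsgLeech CfsgLeechOrb CfsgLib.ConwayRec
open CfsgLib.CoTwoMult (forceN forceN_eq runC runC_spec axCode ax_vec)
open CfsgLeech.OctInv (prj)
open scoped Pointwise

attribute [local irreducible] codeL octadL dodecadL slpCodes mco mv sigG permDec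

/-- The columns of `x ↦ v³x + vx + x`. -/
noncomputable def lcV : List ℕ :=
  (List.range 24).map fun k => apN matV (apN matV (matV.getD k 0)) ^^^ matV.getD k 0 ^^^ 2 ^ k

/-- The checks on the element of order seven. -/
noncomputable def sevenOK : Bool :=
  wordV.all okM && wordG.all okM && wordP.all okM && movesOK wordV && colOK wordV matV &&
    same1 (cat wordV (cat wordV (cat wordV (cat wordV (cat wordV (cat wordV wordV)))))) [oneM] &&
    same1 (cat wordG wordP) (cat wordV wordG) &&
    ((wordX.take 5).all fun A => same1 (cat A wordV) (cat wordV A))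

theorem seven_ok : sevenOK = true := by
  unfold sevenOK
  decide +kernel

/-- The moved cross is in the kernel. -/
noncomputable def startOK : Bool :=
  forceN (runC (wS wordG) (axCode 23)) fun r => Nat.blt 0 r &&
    forceN (phiN (Nat.pred r)) fun c => Nat.beq (apN matV (apN matV (apN matV c)) ^^^ apN matV c ^^^ c) 0

theorem start_ok : startOK = true := by
  unfold startOK
  decide +kernel

theorem certV : certOK lcV invV prjV kerV = true := by
  unfold certOK lcV
  decide +kernel

theorem kerV_length : kerV.length = 12 := rfl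

theorem lcV_get : ∀ k < 24, lcV.getD k 0 = apN matV (apN matV (matV.getD k 0)) ^^^ matV.getD k 0 ^^^ 2 ^ k := by
  intro k hk
  rw [lcV, List.getD_eq_getElem _ _ (by rw [List.length_map, List.length_range]; exact hk), List.getElem_map,
    List.getElem_range]

/-- The element of order seven. -/
noncomputable def vE : Spor.Co1 := ev1 wordV

/-- The linear map cutting out the first eigenspace. -/
noncomputable def lV : (Fin 24 → ZMod 2) →ₗ[ZMod 2] (Fin 24 → ZMod 2) :=
  (linM matV).comp ((linM matV).comp (linM matV)) + linM matV + LinearMap.id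

theorem lV_apply (x : Fin 24 → ZMod 2) : lV x = linM matV (linM matV (linM matV x)) + linM matV x + x := rfl

theorem lV_single (k : Fin 24) : lV (Pi.single k 1) = vecM (lcV.getD k.val 0) := by
  rw [lV_apply, linM_single, ← apN_spec, ← apN_spec, single_vecM, ← vecM_xor, ← vecM_xor, lcV_get k.val k.isLt]

theorem vwV : VW wordV := by
  have H := seven_ok
  simp only [sevenOK, Bool.and_eq_true] at H
  exact vw_of_ok H.1.1.1.1.1.1.1

theorem vwG : VW wordG := by
  have H := seven_ok
  simp only [sevenOK, Bool.and_eq_true] at H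
  exact vw_of_ok H.1.1.1.1.1.1.2

theorem vwP : VW wordP := by
  have H := seven_ok
  simp only [sevenOK, Bool.and_eq_true] at H
  exact vw_of_ok H.1.1.1.1.1.2

theorem vE_order : orderOf vE = 7 := by
  haveI : Fact (Nat.Prime 7) := ⟨by norm_num⟩
  have H := seven_ok
  simp only [sevenOK, Bool.and_eq_true] at H
  refine orderOf_eq_prime ?_ (ne_one_of_moves vwV H.1.1.1.1.2)
  have h2 := vwV.catW vwV
  have h3 := vwV.catW h2
  have h4 := vwV.catW h3
  have h5 := vwV.catW h4
  have h6 := vwV.catW h5
  have := ev1_eq (vwV.catW h6) vw_one H.1.1.2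
  rw [ev1_one, ev1_cat vwV h6, ev1_cat vwV h5, ev1_cat vwV h4, ev1_cat vwV h3, ev1_cat vwV h2, ev1_cat vwV vwV] at this
  simp only [pow_succ, pow_zero, one_mul, mul_assoc]
  exact this

theorem gv_rel : ev1 wordG * ev1 wordP = vE * ev1 wordG := by
  have H := seven_ok
  simp only [sevenOK, Bool.and_eq_true] at H
  have := ev1_eq (vwG.catW vwP) (vwV.catW vwG) H.1.2
  rwa [ev1_cat vwG vwP, ev1_cat vwV vwG] at this

theorem powP_vw : ∀ k, VW (powP k)
  | 0 => vwP
  | k + 1 => vwP.catW (powP_vw k)

theorem powP_ev : ∀ k, ev1 (powP k) = ev1 wordP ^ (k + 1)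
  | 0 => (pow_one _).symm
  | k + 1 => by rw [powP, ev1_cat vwP (powP_vw k), powP_ev k, ← pow_succ']

/-- The vector moved from the standard cross. -/
noncomputable def v0 : ↥leechLattice := ev0 wordG • ax none

theorem lV_v0 : lV (phiH v0) = 0 := by
  have H := start_ok
  simp only [startOK, forceN_eq, Bool.and_eq_true, Nat.blt_eq, Nat.beq_eq] at H
  obtain ⟨hpos, he⟩ := H
  obtain ⟨r, hr⟩ := Nat.exists_eq_succ_of_ne_zero hpos.ne'
  rw [hr] at he
  have hv : (v0 : GolayPt → ℤ) = vecN r := by
    rw [v0, ev0_spec vwG, ← ax_vec]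
    exact runC_spec _ _ r hr
  rw [phiN_spec hv, lV_apply, ← apN_spec, ← apN_spec, ← apN_spec, ← vecM_xor, ← vecM_xor]
  have he' : apN matV (apN matV (apN matV (phiN r))) ^^^ apN matV (phiN r) ^^^ phiN r = 0 := he
  rw [he', vecM_zero]

theorem lV_cls {x : Spor.Co1} (hx : x ∈ Subgroup.centralizer ({vE} : Set Spor.Co1)) : lV (cls v0 x) = 0 := by
  obtain ⟨g, rfl⟩ := exists_lift x
  have hcol : colOK wordV matV = true := by
    have H := seven_ok
    simp only [sevenOK, Bool.and_eq_true] at H
    exact H.1.1.1.2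
  set V := ev0 wordV
  have hm : ∀ y, linM matV (phiH y) = phiH (V • y) := fun y => (phiH_word vwV hcol y).symm
  have hsw : ∀ y, phiH (V • (g • y)) = phiH (g • (V • y)) := fun y => by
    have h1 : prj (V * g) = prj (g * V) := by
      rw [map_mul, map_mul, prj_ev0]
      exact (Subgroup.mem_centralizer_singleton_iff.mp hx).symm
    rw [← mul_smul, ← cls_prj, h1, cls_prj, mul_smul]
  rw [cls_prj, lV_apply, hm, hsw, hm, hsw]
  have e : ∀ y, linM matV (phiH (g • y)) = phiH (g • (V • y)) := fun y => by rw [hm, hsw]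
  rw [e]
  have hu : phiH (V • (V • (V • v0)) + V • v0 + v0) = phiH (0 : ↥leechLattice) := by
    rw [map_add, map_add, map_zero, ← hm, ← hm, ← hm, ← lV_apply]
    exact lV_v0
  have hg := phiH_iff.mpr (Cg.map' g (phiH_iff.mp hu))
  rw [aut_add, aut_add, map_add, map_add, show g • (0 : ↥leechLattice) = 0 from map_zero (autHom g), map_zero] at hg
  exact hg

theorem cent_card_lt : Nat.card ↥(Subgroup.centralizer ({vE} : Set Spor.Co1)) < 2 * 17640 := by
  haveI := OctInv.co1_finite
  refine lt_of_le_of_lt (card_le_classes v0 (L := lV) (a := 4096) (s := 7) (fun x hx => lV_cls hx) ?_ ?_) (by norm_num)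
  · refine (card_fixed lV invV prjV kerV (cert_spec certV lV_single) (by rw [kerV_length]; norm_num)).trans ?_
    rw [kerV_length]
    norm_num
  · set gG : Spor.Co1 := prj (ev0 wordG)
    have hgG : gG = ev1 wordG := prj_ev0 _
    have hmod : modImg v0 = Out1.NI.map (MulAut.conj gG).toMonoidHom := by
      rw [v0, modImg_smul, Out1.NI_eq]
      rfl
    refine (Subgroup.card_map_of_injective (K := Subgroup.centralizer ({vE} : Set Spor.Co1) ⊓ modImg v0)
      (f := (MulAut.conj gG⁻¹).toMonoidHom) (MulAut.conj gG⁻¹).injective).symm.le.trans ?_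
    refine mono_seven_le fun x hx => ?_
    obtain ⟨y, ⟨hyC, hyM⟩, rfl⟩ := hx
    rw [SetLike.mem_coe, hmod] at hyM
    obtain ⟨n, hn, rfl⟩ := hyM
    have hx' : (MulAut.conj gG⁻¹).toMonoidHom ((MulAut.conj gG).toMonoidHom n) = n := by
      simp [MulAut.conj_apply, mul_assoc]
    rw [hx']
    refine ⟨hn, fun k _ => ?_⟩
    rw [powP_ev]
    refine (Commute.pow_right ?_ _).eq
    have hc := Subgroup.mem_centralizer_singleton_iff.mp hyC
    have hc' : gG * n * gG⁻¹ * vE = vE * (gG * n * gG⁻¹) := hc
    have hP : ev1 wordP = gG⁻¹ * vE * gG := by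
      rw [hgG, mul_assoc, ← gv_rel, inv_mul_cancel_left]
    show n * ev1 wordP = ev1 wordP * n
    rw [hP]
    calc n * (gG⁻¹ * vE * gG) = gG⁻¹ * (gG * n * gG⁻¹ * vE) * gG := by group
      _ = gG⁻¹ * (vE * (gG * n * gG⁻¹)) * gG := by rw [hc']
      _ = gG⁻¹ * vE * gG * n := by group

theorem exists_seven : ∃ φ : alternatingGroup (Fin 7) →* Spor.Co1, Function.Injective φ ∧
    ∀ g, φ g * vE = vE * φ g := by
  have H := nine_ok
  simp only [nineOK, Bool.and_eq_true] at H
  have hlen : wordX.length = 7 := Nat.eq_of_beq_eq_true H.1.1.1.1.1.1.1.1.2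
  obtain ⟨φ, hφ, hcl⟩ := alt_embed (n := 5) (by norm_num) (carm_of_ok H.1.1.1.1.1.1.1.1.1 (by omega)) ⟨0, by norm_num⟩
    (ne_one_of_moves (vwX (by
      rw [List.getD_eq_getElem _ _ (by omega)]; exact List.getElem_mem _)) H.1.1.1.1.1.1.1.2)
  refine ⟨φ, hφ, fun g => ?_⟩
  have h1 : Subgroup.closure (Set.range fun i : Fin 5 => ev1 (wordX.getD i.val [])) ≤
      Subgroup.centralizer ({vE} : Set Spor.Co1) :=
    (Subgroup.closure_le _).mpr (by
      rintro _ ⟨i, rfl⟩
      have hmem : wordX.getD i.val [] ∈ wordX.take 5 := by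
        rw [List.getD_eq_getElem _ _ (by omega)]
        exact List.mem_take_iff_getElem.mpr ⟨i.val, by omega, rfl⟩
      have hA := vwX (List.mem_of_mem_take hmem)
      have S := seven_ok
      simp only [sevenOK, Bool.and_eq_true, List.all_eq_true] at S
      have := ev1_eq (hA.catW vwV) (vwV.catW hA) (S.2 _ hmem)
      rw [ev1_cat hA vwV, ev1_cat vwV hA] at this
      exact Subgroup.mem_centralizer_singleton_iff.mpr this)
  exact Subgroup.mem_centralizer_singleton_iff.mp (h1 (hcl g))

end CfsgLib.ConwayLocal
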